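import Cfsg.Agent.EqLemmas

/-!
The position in the covering table of a matrix code, or 168; produced by a search program.
-/

set_option autoImplicit false
set_option maxRecDepth 20000

namespace Cfsg.Agent.MonsterSeven

/-- The position of a matrix code. -/
def covPos : List ℕ := [
  168, 168, 168, 168, 168, 168, 168, 168, 168, 168, 168, 168, 168, 168, 168, 168,
  168, 168, 168, 168, 168, 168, 168, 168, 168, 168, 168, 168, 168, 168, 168, 168,
  168, 168, 168, 168, 168, 168, 168, 168, 168, 168, 168, 168, 168, 168, 168, 168,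
  168, 168, 168, 168, 168, 168, 168, 168, 168, 168, 168, 168, 168, 168, 168, 168,
  168, 168, 168, 168, 168, 168, 168, 168, 168, 168, 168, 168, 168, 168, 168, 168,
  168, 168, 168, 168, 0, 1, 2, 3, 168, 168, 168, 168, 4, 5, 6, 7,
  168, 168, 8, 9, 168, 168, 10, 11, 168, 168, 12, 13, 168, 168, 14, 15,
  168, 168, 16, 17, 18, 19, 168, 168, 168, 168, 20, 21, 22, 23, 168, 168,
  168, 168, 168, 168, 168, 168, 168, 168, 168, 168, 168, 168, 24, 25, 26, 27,
  168, 168, 168, 168, 168, 168, 168, 168, 168, 168, 168, 168, 28, 29, 30, 31,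
  168, 32, 168, 33, 168, 34, 168, 35, 168, 36, 168, 37, 38, 168, 39, 168,
  168, 40, 168, 41, 168, 42, 168, 43, 168, 44, 168, 45, 46, 168, 47, 168,
  168, 168, 168, 168, 168, 168, 168, 168, 168, 168, 168, 168, 48, 49, 50, 51,
  168, 168, 168, 168, 52, 53, 54, 55, 168, 168, 168, 168, 168, 168, 168, 168,
  168, 56, 57, 168, 168, 58, 59, 168, 168, 60, 61, 168, 62, 168, 168, 63,
  168, 64, 65, 168, 66, 168, 168, 67, 168, 68, 69, 168, 168, 70, 71, 168,
  168, 168, 168, 168, 168, 168, 168, 168, 168, 168, 72, 73, 168, 168, 74, 75,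
  168, 76, 168, 77, 168, 78, 168, 79, 168, 80, 81, 168, 168, 82, 83, 168,
  168, 168, 168, 168, 168, 168, 168, 168, 168, 168, 84, 85, 168, 168, 86, 87,
  168, 88, 168, 89, 168, 90, 168, 91, 168, 92, 93, 168, 168, 94, 95, 168,
  168, 168, 168, 168, 168, 168, 168, 168, 168, 168, 96, 97, 168, 168, 98, 99,
  168, 100, 168, 101, 102, 168, 103, 168, 168, 104, 105, 168, 106, 168, 168, 107,
  168, 168, 108, 109, 168, 168, 110, 111, 168, 168, 168, 168, 168, 168, 168, 168,
  168, 112, 113, 168, 114, 168, 168, 115, 168, 116, 168, 117, 118, 168, 119, 168,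
  168, 168, 168, 168, 168, 168, 168, 168, 168, 168, 120, 121, 122, 123, 168, 168,
  168, 124, 168, 125, 168, 126, 168, 127, 168, 128, 129, 168, 130, 168, 168, 131,
  168, 132, 168, 133, 168, 134, 168, 135, 168, 136, 137, 168, 138, 168, 168, 139,
  168, 168, 168, 168, 168, 168, 168, 168, 168, 168, 140, 141, 142, 143, 168, 168,
  168, 168, 168, 168, 168, 168, 168, 168, 168, 168, 144, 145, 146, 147, 168, 168,
  168, 148, 168, 149, 150, 168, 151, 168, 168, 152, 153, 168, 168, 154, 155, 168,
  168, 156, 157, 168, 168, 158, 159, 168, 168, 160, 168, 161, 162, 168, 163, 168,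
  168, 168, 164, 165, 166, 167, 168, 168, 168, 168, 168, 168, 168, 168, 168, 168]

end Cfsg.Agent.MonsterSeven
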