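import Cfsg.Agent.Lib.MonsterSeven.FixedChecks
import Cfsg.Agent.Lib.MonsterSeven.Cover

/-!
# Kernel checks for the action of the centraliser on the fixed classes
-/

set_option autoImplicit false
set_option maxRecDepth 100000
open Cfsg

namespace Cfsg.Agent.MonsterSeven

open Leech GolayClasses

/-- A column of a matrix over the field of two elements, coded by a triple. -/
def sel (T : ℕ × ℕ × ℕ) : ℕ → ℕ
  | 0 => T.1
  | 1 => T.2.1
  | _ => T.2.2

/-- The matrix of a triple of columns. -/
def matOf (T : ℕ × ℕ × ℕ) : Matrix (Fin 3) (Fin 3) (ZMod 2) :=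
  Matrix.of fun i j => if (sel T j.1).testBit i.1 then 1 else 0

/-- The image of a coded vector. -/
def appT (T : ℕ × ℕ × ℕ) (u : ℕ) : ℕ :=
  ((if u.testBit 0 then T.1 else 0) ^^^ (if u.testBit 1 then T.2.1 else 0)) ^^^
    (if u.testBit 2 then T.2.2 else 0)

/-- The product of two coded matrices. -/
def compT (T U : ℕ × ℕ × ℕ) : ℕ × ℕ × ℕ := (appT T U.1, appT T U.2.1, appT T U.2.2)

/-- The coded product of a table entry. -/
def covTriple (p : ℕ × ℕ × ℕ) : ℕ × ℕ × ℕ :=
  compT (movTr.getD p.1 (0, 0, 0)) (compT (wordTr.getD p.2.1 (0, 0, 0)) (permTr.getD p.2.2 (0, 0, 0)))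

/-- Every invertible matrix is covered. -/
def covChk : Bool :=
  (List.range 8).all fun a => (List.range 8).all fun b => (List.range 8).all fun c =>
    (a == 0 || b == 0 || c == 0 || a == b || a == c || b == c || (a ^^^ b) == c) ||
      (covTriple (covIdx.getD (covPos.getD (a + 8 * b + 64 * c) 168) (7, 8, 42)) == (a, b, c) &&
        decide ((covIdx.getD (covPos.getD (a + 8 * b + 64 * c) 168) (7, 8, 42)).1 < 7 ∧
          (covIdx.getD (covPos.getD (a + 8 * b + 64 * c) 168) (7, 8, 42)).2.1 < 8 ∧
          (covIdx.getD (covPos.getD (a + 8 * b + 64 * c) 168) (7, 8, 42)).2.2 < 42))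

theorem covChk_eq : covChk = true := by decide +kernel

/-- The mask of a union of orbits. -/
def omask (s : ℕ) : ℕ :=
  (List.range 24).foldr (fun j m => if s.testBit (orb j) then m ||| 2 ^ j else m) 0

theorem omask_bit : ∀ s < 64, omask s < 2 ^ 24 ∧ ∀ j < 24, (omask s).testBit j = s.testBit (orb j) := by
  decide +kernel

theorem omask_code : ∀ s < 64, Golay.isCode (omask s) = true → ∃ c < 8, fixWords.getD c 0 = omask s := by
  decide +kernel

theorem word_chk : ∀ c < 8, Golay.isCode (fixWords.getD c 0) = true ∧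
    (∀ j < 24, (fixWords.getD c 0).testBit (Golay.fn sevenGen j) = (fixWords.getD c 0).testBit j) ∧
    ∀ b < 3, sel (wordTr.getD c (0, 0, 0)) b < 8 ∧
      cgL ((List.range 24).map fun j =>
        if (fixWords.getD c 0).testBit j then -(repL (2 ^ b)).getD j 0 else (repL (2 ^ b)).getD j 0)
        (repL (sel (wordTr.getD c (0, 0, 0)) b)) = true := by
  decide +kernel

theorem perm_chk : sevenCent.length = 42 ∧ ∀ d < 42,
    Golay.isAut (sevenCent.getD d 0) = true ∧ twists 1 (sevenCent.getD d 0) = true ∧
    ∀ b < 3, sel (permTr.getD d (0, 0, 0)) b < 8 ∧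
      cgL (repL (2 ^ b))
        ((List.range 24).map fun j =>
          (repL (sel (permTr.getD d (0, 0, 0)) b)).getD (Golay.fn (sevenCent.getD d 0) j) 0) = true := by
  decide +kernel

/-- The pairs acting trivially. -/
def kerChk : Bool :=
  (List.range 8).all fun c => (List.range 42).all fun d =>
    compT (wordTr.getD c (0, 0, 0)) (permTr.getD d (0, 0, 0)) != (1, 2, 4) ||
      ((fixWords.getD c 0 == 0 || fixWords.getD c 0 == 16777215) &&
        (List.range 7).any fun j => (List.range 24).all fun i =>
          Golay.fn (sevenCent.getD d 0) i == zIter j i)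

theorem kerChk_eq : kerChk = true := by decide +kernel

theorem ker_chk {c d : ℕ} (hc : c < 8) (hd : d < 42)
    (h : compT (wordTr.getD c (0, 0, 0)) (permTr.getD d (0, 0, 0)) = (1, 2, 4)) :
    (fixWords.getD c 0 = 0 ∨ fixWords.getD c 0 = 16777215) ∧
      ∃ j < 7, ∀ i < 24, Golay.fn (sevenCent.getD d 0) i = zIter j i := by
  have h' := kerChk_eq
  simp only [kerChk, List.all_eq_true, List.mem_range, Bool.or_eq_true, bne_iff_ne, ne_eq,
    Bool.and_eq_true, beq_iff_eq, List.any_eq_true] at h'
  exact (h' c hc d hd).resolve_left fun e => e h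

theorem no_twist_chk : (sevenNorm.all fun d => !twists 6 d) = true := by decide +kernel

end Cfsg.Agent.MonsterSeven
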