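import Cfsg.Agent.Lib.MonsterSeven.Move
import Cfsg.Agent.Lib.MonsterSeven.CentChecks
import Cfsg.Agent.Lib.Golay.DodecadPairs

/-!
# The centraliser of the element of order seven on its fixed classes

* `act η n` : the action on the seven classes `R 1, ..., R 7`, a Fano plane
* `slHom : cent7 →* SL(3, 2)`, surjective, with kernel `±⟨g7⟩`
-/

set_option autoImplicit false
set_option maxRecDepth 100000
open Cfsg
open scoped Matrix

namespace Cfsg.Agent.MonsterSeven

open Leech MonsterLattice GolayClasses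

/-- The centraliser of the element of order seven. -/
noncomputable def cent7 : Subgroup Co0 := Subgroup.centralizer ({g7} : Set Co0)

theorem mem_cent7 {η : Co0} : η ∈ cent7 ↔ η * g7 = g7 * η := Subgroup.mem_centralizer_singleton_iff

theorem cg_R_one_eightVec : Cg (R 1) (eightVec none) := by
  have h : (R 1 : GolayPt → ℤ) ∈ stdCross :=
    ⟨Golay.pt 4, -8, Or.inr rfl, by rw [coe_R (by norm_num)]; decide +kernel⟩
  exact congr_of_mem_stdCross h (eightVec_mem_stdCross none)

theorem clsStab_R_one : clsStab (R 1) = stdStab := by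
  rw [← clsStab_eightVec]
  ext g
  exact ⟨fun h => ((cg_R_one_eightVec.symm.smul g).trans h).trans cg_R_one_eightVec,
    fun h => ((cg_R_one_eightVec.smul g).trans h).trans cg_R_one_eightVec.symm⟩

theorem single_eq {a b : GolayPt} {s t : ℤ} (hs : s ≠ 0)
    (h : (Pi.single a s : GolayPt → ℤ) = Pi.single b t) : a = b ∧ s = t := by
  have h1 := congrFun h a
  rw [Pi.single_eq_same] at h1
  by_cases e : a = b
  · subst e; rw [Pi.single_eq_same] at h1; exact ⟨rfl, h1⟩
  · rw [Pi.single_eq_of_ne e] at h1; exact absurd h1 hs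

theorem mono_comm {σ : Equiv.Perm GolayPt} (hσ : σ ∈ M24) {c : Finset GolayPt}
    (hc : c ∈ supports (golayCode : Set (GolayPt → ZMod 2))) {τ τ' : M24}
    (h : mono σ hσ c hc * permHom τ = permHom τ' * mono σ hσ c hc) :
    σ * τ.1 = τ'.1 * σ ∧ ∀ p, τ'.1 p ∈ c ↔ p ∈ c := by
  have key : ∀ i, σ (τ.1 i) = τ'.1 (σ i) ∧ (σ (τ.1 i) ∈ c ↔ σ i ∈ c) := by
    intro i
    have h1 := congrArg (fun g : Co0 => ((g • eightVec i : leechLattice) : GolayPt → ℤ)) h
    simp only [mul_smul, permHom_apply, vec_mono, coe_eightVec, signedPerm_single,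
      Finset.notMem_empty, if_false] at h1
    obtain ⟨e1, e2⟩ := single_eq (by split_ifs <;> norm_num) h1
    refine ⟨e1, ?_⟩
    by_cases a : σ (τ.1 i) ∈ c <;> by_cases b : σ i ∈ c <;> simp [a, b] at e2 ⊢
  refine ⟨Equiv.ext fun i => (key i).1, fun p => ?_⟩
  obtain ⟨e, hiff⟩ := key (σ.symm p)
  rw [Equiv.apply_symm_apply] at e hiff
  rw [← e]; exact hiff

theorem twists_complete {j d : ℕ} (hd : Golay.isAut d = true) (h : Twists j (Golay.toPerm d)) :
    twists j d = true := by
  simp only [twists, List.all_eq_true, List.mem_range, beq_iff_eq]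
  intro i hi
  have := congrArg Golay.idx (Equiv.Perm.ext_iff.1 h.2 (Golay.pt i))
  rw [Equiv.Perm.mul_apply, Equiv.Perm.mul_apply, idx_zpow, sevenZ,
    Golay.idx_toPerm (Golay.validPerm_of_isAut hd), Golay.idx_toPerm valid_sevenGen,
    Golay.idx_toPerm (Golay.validPerm_of_isAut hd), Golay.idx_pt hi] at this
  exact this

theorem no_twist_six {m : Co0} (hm : m ∈ stdStab) : m * g7 ≠ g7 ^ 6 * m := by
  intro h
  obtain ⟨σ, hσ, c, hc, rfl⟩ := exists_mono_of_mem hm
  rw [g7, ← map_pow] at h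
  have ht : Twists 6 σ := ⟨hσ, (mono_comm hσ hc h).1.trans (by rw [SubmonoidClass.coe_pow]; rfl)⟩
  obtain ⟨d, hd, rfl⟩ := exists_norm ⟨6, by norm_num, by norm_num, ht⟩
  have hA : ∀ d ∈ sevenNorm, Golay.isAut d = true := fun d hd => by
    have h := sevenCheck_eq
    simp only [sevenCheck, Bool.and_eq_true] at h
    obtain ⟨⟨⟨⟨⟨⟨⟨⟨⟨-, -⟩, hN⟩, -⟩, -⟩, -⟩, -⟩, -⟩, -⟩, -⟩ := h
    exact (Bool.and_eq_true_iff.mp (List.all_eq_true.mp hN d hd)).1
  have h2 := List.all_eq_true.1 no_twist_chk d hd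
  rw [twists_complete (hA d hd) ht] at h2
  exact Bool.false_ne_true h2

theorem mover_mem {i : ℕ} (hi : i < 7) : mover i ∈ cent7 := by
  have h := mover_twist (show i < 14 by omega)
  rw [matExp, if_pos hi, pow_one] at h
  exact mem_cent7.2 h

theorem Fix.smul {η : Co0} (hη : η ∈ cent7) {v : leechLattice} (h : Fix v) : Fix (η • v) := by
  have h1 := MonsterLattice.Cg.smul η h
  rwa [← mul_smul, mem_cent7.1 hη, mul_smul] at h1

theorem plane_one {η : Co0} (hη : η ∈ cent7) : ∃ k < 8, k ≠ 0 ∧ Cg (η • R 1) (R k) := by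
  obtain ⟨k, hk, hc⟩ := exists_idx ((fix_R (n := 1) (by norm_num)).smul hη)
  have h64 : sqNorm ((η • R 1 : leechLattice) : GolayPt → ℤ) = 64 := by
    rw [sqNorm_smul]; exact (norm_R_eq (by norm_num) (by norm_num)).2 (by norm_num)
  have hk0 : k ≠ 0 := by
    rintro rfl
    exact not_cg_zero (Or.inr (Or.inr h64)) (R_zero ▸ hc)
  have hkn : sqNorm (R k : GolayPt → ℤ) = 64 := by
    have hle : sqNorm (R k : GolayPt → ℤ) ≤ 64 := by rcases norm_R hk hk0 with e | e | e <;> omega
    rcases congr_short (η • R 1).2 hc h64.le hle with e | e | ⟨-, e, -⟩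
    · rw [← e, h64]
    · rw [e, sqNorm_neg] at h64; exact h64
    · exact e
  rcases (norm_R_eq hk hk0).1 hkn with h8 | h8
  · exact ⟨k, h8, hk0, hc⟩
  exfalso
  have hi : k / 8 + 6 < 14 := by omega
  have h1 : Cg (mover (k / 8 + 6) • R 1) (R k) := by
    have := mover_R_one hi
    rwa [matTgt, if_neg (by omega), show 8 * (k / 8 + 6 - 6) = k by omega] at this
  have htw := mover_twist hi
  rw [matExp, if_neg (by omega)] at htw
  have hmem : (mover (k / 8 + 6))⁻¹ * η ∈ stdStab := by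
    rw [← clsStab_R_one, mem_clsStab, mul_smul]
    have := (hc.trans h1.symm).smul (mover (k / 8 + 6))⁻¹
    rwa [inv_smul_smul] at this
  refine no_twist_six hmem ?_
  have hinv : (mover (k / 8 + 6))⁻¹ * g7 = g7 ^ 6 * (mover (k / 8 + 6))⁻¹ := by
    rw [inv_mul_eq_iff_eq_mul, ← mul_assoc, eq_mul_inv_iff_mul_eq]
    have h36 : ∀ n : ℕ, mover (k / 8 + 6) * g7 ^ n = g7 ^ (6 * n) * mover (k / 8 + 6) := fun n => by
      induction n with
      | zero => simp
      | succ n ih => rw [pow_succ, ← mul_assoc, ih, mul_assoc, htw, ← mul_assoc, ← pow_add, Nat.mul_succ]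
    rw [h36, show 6 * 6 = 1 + 7 * 5 from rfl, pow_add, pow_mul, g7_seven, one_pow, mul_one, pow_one]
  rw [mul_assoc, mem_cent7.1 hη, ← mul_assoc, hinv, mul_assoc]

theorem plane {η : Co0} (hη : η ∈ cent7) {n : ℕ} (hn : n < 8) :
    ∃ k < 8, Cg (η • R n) (R k) := by
  by_cases h0 : n = 0
  · subst h0
    exact ⟨0, by norm_num, by rw [R_zero, smul_vzero]; exact cg_refl _⟩
  obtain ⟨k, hk, -, hc⟩ := plane_one (mul_mem hη (mover_mem (i := n - 1) (by omega)))
  refine ⟨k, hk, Cg.trans ?_ hc⟩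
  have := mover_R_one (i := n - 1) (by omega)
  rw [matTgt, if_pos (by omega), show n - 1 + 1 = n by omega] at this
  rw [mul_smul]
  exact (this.smul η).symm

/-- The action on the indices below eight. -/
noncomputable def act (η : cent7) (n : ℕ) : ℕ :=
  if h : n < 8 then (plane η.2 h).choose else 0

theorem act_spec (η : cent7) {n : ℕ} (hn : n < 8) :
    act η n < 8 ∧ Cg ((η : Co0) • R n) (R (act η n)) := by
  rw [act, dif_pos hn]; exact (plane η.2 hn).choose_spec

theorem act_eq {η : cent7} {n k : ℕ} (hn : n < 8) (hk : k < 64) (h : Cg ((η : Co0) • R n) (R k)) :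
    act η n = k :=
  idx_unique (by have := (act_spec η hn).1; omega) hk (act_spec η hn).2 h

/-- The three columns. -/
noncomputable def cols (η : cent7) : ℕ × ℕ × ℕ := (act η 1, act η 2, act η 4)

theorem xor_lt_eight {a b : ℕ} (ha : a < 8) (hb : b < 8) : a ^^^ b < 8 :=
  Nat.xor_lt_two_pow (n := 3) ha hb

theorem act_xor (η : cent7) {a b : ℕ} (ha : a < 8) (hb : b < 8) :
    act η (a ^^^ b) = act η a ^^^ act η b := by
  obtain ⟨ha', hca⟩ := act_spec η ha
  obtain ⟨hb', hcb⟩ := act_spec η hb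
  refine act_eq (xor_lt_eight ha hb) (by have := xor_lt_eight ha' hb'; omega) ?_
  refine ((cg_xor (by omega) (by omega)).symm.smul (η : Co0)).trans ?_
  rw [smul_vadd]
  exact (Cg.add' hca hcb).trans (cg_xor (by omega) (by omega))

theorem act_app (η : cent7) {n : ℕ} (hn : n < 8) : act η n = appT (cols η) n := by
  have h0 : act η 0 = 0 :=
    act_eq (by norm_num) (by norm_num) (by rw [R_zero, smul_vzero]; exact cg_refl _)
  have e3 := act_xor η (a := 1) (b := 2) (by norm_num) (by norm_num)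
  have e5 := act_xor η (a := 1) (b := 4) (by norm_num) (by norm_num)
  have e6 := act_xor η (a := 2) (b := 4) (by norm_num) (by norm_num)
  have e7 := act_xor η (a := 3) (b := 4) (by norm_num) (by norm_num)
  rw [show (1 : ℕ) ^^^ 2 = 3 from rfl] at e3
  rw [show (1 : ℕ) ^^^ 4 = 5 from rfl] at e5
  rw [show (2 : ℕ) ^^^ 4 = 6 from rfl] at e6
  rw [show (3 : ℕ) ^^^ 4 = 7 from rfl] at e7
  interval_cases n <;> simp +decide [appT, cols, h0, e3, e5, e6, e7]

theorem cols_mul (η ζ : cent7) : cols (η * ζ) = compT (cols η) (cols ζ) := by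
  have h : ∀ n < 8, act (η * ζ) n = appT (cols η) (act ζ n) := fun n hn => by
    obtain ⟨h1, h2⟩ := act_spec ζ hn
    rw [← act_app η h1]
    refine act_eq hn (by have := (act_spec η h1).1; omega) ?_
    rw [Subgroup.coe_mul, mul_smul]
    exact (h2.smul (η : Co0)).trans (act_spec η h1).2
  simp only [cols, compT, Prod.mk.injEq]
  exact ⟨h 1 (by norm_num), h 2 (by norm_num), h 4 (by norm_num)⟩

theorem matOf_compT (T U : ℕ × ℕ × ℕ) : matOf (compT T U) = matOf T * matOf U := by
  ext i j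
  rw [Matrix.mul_apply, Fin.sum_univ_three]
  have hs : sel (compT T U) j.1 = appT T (sel U j.1) := by fin_cases j <;> rfl
  simp only [matOf, Matrix.of_apply, hs]
  generalize sel U j.1 = u
  simp only [appT, sel, Fin.val_zero, Fin.val_one, Fin.val_two]
  have key : ∀ p q r : Bool,
      (if (((if p then T.1 else 0) ^^^ (if q then T.2.1 else 0)) ^^^
          (if r then T.2.2 else 0)).testBit i.1 then (1 : ZMod 2) else 0) =
        (if T.1.testBit i.1 then 1 else 0) * (if p then 1 else 0) +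
          (if T.2.1.testBit i.1 then 1 else 0) * (if q then 1 else 0) +
          (if T.2.2.testBit i.1 then 1 else 0) * (if r then 1 else 0) := by
    intro p q r
    cases p <;> cases q <;> cases r <;> simp [Nat.testBit_xor] <;> cases T.1.testBit i.1 <;>
      cases T.2.1.testBit i.1 <;> cases T.2.2.testBit i.1 <;> simp <;> decide
  exact key (u.testBit 0) (u.testBit 1) (u.testBit 2)

theorem matOf_id : matOf (1, 2, 4) = 1 := by decide +kernel

theorem cols_one : cols 1 = (1, 2, 4) := by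
  simp only [cols, Prod.mk.injEq]
  refine ⟨?_, ?_, ?_⟩ <;> refine act_eq (by norm_num) (by norm_num) ?_ <;>
    rw [OneMemClass.coe_one, one_smul] <;> exact cg_refl _

/-- The action on the plane. -/
noncomputable def slHom : cent7 →* Matrix.SpecialLinearGroup (Fin 3) (ZMod 2) where
  toFun η := ⟨matOf (cols η), by
    have h : (matOf (cols η)).det * (matOf (cols η⁻¹)).det = 1 := by
      rw [← Matrix.det_mul, ← matOf_compT, ← cols_mul, mul_inv_cancel, cols_one, matOf_id,
        Matrix.det_one]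
    revert h
    generalize (matOf (cols η)).det = a
    generalize (matOf (cols η⁻¹)).det = b
    revert a b
    decide⟩
  map_one' := Subtype.ext (show matOf (cols 1) = 1 by rw [cols_one, matOf_id])
  map_mul' η ζ := Subtype.ext (show matOf (cols (η * ζ)) = matOf (cols η) * matOf (cols ζ) by
    rw [cols_mul, matOf_compT])

theorem coe_slHom (η : cent7) : (slHom η : Matrix (Fin 3) (Fin 3) (ZMod 2)) = matOf (cols η) := rfl

theorem matOf_inj {T : ℕ × ℕ × ℕ} (h1 : T.1 < 8) (h2 : T.2.1 < 8) (h3 : T.2.2 < 8)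
    (h : matOf T = 1) : T = (1, 2, 4) := by
  obtain ⟨a, b, c⟩ := T
  have hk : ∀ a < 8, (∀ i : Fin 3, (if Nat.testBit a i.1 then (1 : ZMod 2) else 0) =
      if i = 0 then 1 else 0) → a = 1 := by decide
  have hl : ∀ a < 8, (∀ i : Fin 3, (if Nat.testBit a i.1 then (1 : ZMod 2) else 0) =
      if i = 1 then 1 else 0) → a = 2 := by decide
  have hm : ∀ a < 8, (∀ i : Fin 3, (if Nat.testBit a i.1 then (1 : ZMod 2) else 0) =
      if i = 2 then 1 else 0) → a = 4 := by decide
  have e : ∀ i j : Fin 3, matOf (a, b, c) i j = if i = j then 1 else 0 := fun i j => by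
    rw [h, Matrix.one_apply]
  rw [hk a h1 fun i => e i 0, hl b h2 fun i => e i 1, hm c h3 fun i => e i 2]

theorem act_of_slHom {η : cent7} (h : slHom η = 1) {n : ℕ} (hn : n < 8) :
    Cg ((η : Co0) • R n) (R n) := by
  have h1 : cols η = (1, 2, 4) := matOf_inj (act_spec η (n := 1) (by norm_num)).1
    (act_spec η (n := 2) (by norm_num)).1 (act_spec η (n := 4) (by norm_num)).1 (by rw [← coe_slHom, h]; rfl)
  have h2 := (act_spec η hn).2
  have h3 : appT (1, 2, 4) n = n := by interval_cases n <;> rfl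
  rwa [act_app η hn, h1, h3] at h2

theorem slHom_eq_one_iff {η : cent7} : slHom η = 1 ↔ ∀ n < 8, Cg ((η : Co0) • R n) (R n) := by
  refine ⟨fun h n hn => act_of_slHom h hn, fun h => Subtype.ext ?_⟩
  rw [coe_slHom]
  have hc : cols η = (1, 2, 4) := by
    simp only [cols, Prod.mk.injEq]
    exact ⟨act_eq (by norm_num) (by norm_num) (h 1 (by norm_num)),
      act_eq (by norm_num) (by norm_num) (h 2 (by norm_num)),
      act_eq (by norm_num) (by norm_num) (h 4 (by norm_num))⟩
  rw [hc, matOf_id]; rfl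

/-! ### The monomial elements -/

/-- The code word of an index. -/
def fixSet (c : ℕ) : Finset GolayPt := Golay.pts (fixWords.getD c 0)

theorem fixSet_mem {c : ℕ} (hc : c < 8) :
    fixSet c ∈ supports (golayCode : Set (GolayPt → ZMod 2)) :=
  Golay.mem_supports_of_isCode (word_chk c hc).1

/-- The sign change of an index. -/
def signC (c : ℕ) (hc : c < 8) : Co0 := signEl (fixSet c) (fixSet_mem hc)

/-- The permutation of an index. -/
noncomputable def permD (d : ℕ) (hd : d < 42) : Co0 :=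
  permHom ⟨Golay.toPerm (sevenCent.getD d 0), Golay.toPerm_mem_M24 (perm_chk.2 d hd).1⟩

theorem idx_sevenZ (p : GolayPt) : Golay.idx (sevenM.1 p) = Golay.fn sevenGen (Golay.idx p) :=
  Golay.idx_toPerm valid_sevenGen p

theorem signC_mem {c : ℕ} (hc : c < 8) : signC c hc ∈ cent7 := by
  refine mem_cent7.2 (co0_ext fun v => Subtype.ext (funext fun i => ?_))
  rw [mul_smul, mul_smul, g7, signC, vec_perm, vec_signEl, vec_signEl]
  simp only [vec_perm]
  have hiff : sevenM.1.symm i ∈ fixSet c ↔ i ∈ fixSet c := by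
    conv_rhs => rw [← Equiv.apply_symm_apply sevenM.1 i]
    generalize sevenM.1.symm i = p
    rw [fixSet, Golay.mem_pts, Golay.mem_pts, idx_sevenZ,
      (word_chk c hc).2.1 _ (Golay.idx_lt p)]
  by_cases h : i ∈ fixSet c <;> simp [h, hiff]

theorem permD_mem {d : ℕ} (hd : d < 42) : permD d hd ∈ cent7 := by
  refine mem_cent7.2 ?_
  rw [permD, g7, ← map_mul, ← map_mul]
  congr 1
  refine Subtype.ext ?_
  have := (twists_sound (perm_chk.2 d hd).1 (perm_chk.2 d hd).2.1).2
  rwa [pow_one] at this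

theorem two_pow_lt {b : ℕ} (hb : b < 3) : 2 ^ b < 8 := Nat.pow_lt_pow_right (by norm_num) hb (n := 3)

theorem cols_eq {η : cent7} {T : ℕ × ℕ × ℕ}
    (h : ∀ b < 3, sel T b < 8 ∧ Cg ((η : Co0) • R (2 ^ b)) (R (sel T b))) : cols η = T := by
  obtain ⟨a, b, c⟩ := T
  simp only [cols, Prod.mk.injEq]
  exact ⟨act_eq (by norm_num) (lt_trans (h 0 (by norm_num)).1 (by norm_num)) (h 0 (by norm_num)).2,
    act_eq (by norm_num) (lt_trans (h 1 (by norm_num)).1 (by norm_num)) (h 1 (by norm_num)).2,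
    act_eq (by norm_num) (lt_trans (h 2 (by norm_num)).1 (by norm_num)) (h 2 (by norm_num)).2⟩

theorem cols_signC {c : ℕ} (hc : c < 8) :
    cols ⟨signC c hc, signC_mem hc⟩ = wordTr.getD c (0, 0, 0) := by
  refine cols_eq fun b hb => ?_
  obtain ⟨h1, h2⟩ := (word_chk c hc).2.2 b hb
  refine ⟨h1, cg_of_cgL ?_ (coe_R (by omega)) h2⟩
  show ((signC c hc • R (2 ^ b) : leechLattice) : GolayPt → ℤ) = _
  rw [signC, vec_signEl, coe_R (by have := two_pow_lt hb; omega), vOf_range]
  funext i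
  simp [fixSet, vOf]

theorem cols_permD {d : ℕ} (hd : d < 42) :
    cols ⟨permD d hd, permD_mem hd⟩ = permTr.getD d (0, 0, 0) := by
  refine cols_eq fun b hb => ?_
  obtain ⟨h1, h2⟩ := (perm_chk.2 d hd).2.2 b hb
  refine ⟨h1, ?_⟩
  have e : ∀ w : leechLattice, Cg (R (2 ^ b)) w → Cg (permD d hd • R (2 ^ b)) (permD d hd • w) :=
    fun w h => h.smul _
  have hw : Cg (R (2 ^ b)) ((permD d hd)⁻¹ • R (sel (permTr.getD d (0, 0, 0)) b)) := by
    refine cg_of_cgL (coe_R (by have := two_pow_lt hb; omega)) ?_ h2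
    rw [permD, ← map_inv, vOf_range]
    funext i
    rw [vec_perm, coe_R (by omega)]
    show (repL _).getD (Golay.idx _) 0 = (repL _).getD _ 0
    rw [← Golay.idx_toPerm (Golay.validPerm_of_isAut (perm_chk.2 d hd).1)]
    rfl
  have := e _ hw
  rwa [smul_inv_smul] at this

theorem cols_mover {i : ℕ} (hi : i < 7) :
    cols ⟨mover i, mover_mem hi⟩ = movTr.getD i (0, 0, 0) := by
  refine cols_eq fun b hb => ?_
  obtain ⟨-, -, h⟩ := mover_img (i := i) (by omega) (b := b) (by rw [if_pos hi]; exact hb)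
  have he : imgTo i b = sel (movTr.getD i (0, 0, 0)) b := by
    rw [imgTo, if_pos hi]; interval_cases b <;> rfl
  have hlt : ∀ i < 7, ∀ b < 3, sel (movTr.getD i (0, 0, 0)) b < 8 := by decide +kernel
  rw [← he]
  exact ⟨he ▸ hlt i hi b hb, h⟩

theorem slHom_surjective : Function.Surjective slHom := by
  intro A
  let code : Fin 3 → ℕ := fun j =>
    ((A.1 0 j).val + 2 * (A.1 1 j).val) + 4 * (A.1 2 j).val
  have hA : matOf (code 0, code 1, code 2) = A.1 := by
    have hx : ∀ x y z : ZMod 2, ∀ i : Fin 3,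
        (if (x.val + 2 * y.val + 4 * z.val).testBit i.1 then (1 : ZMod 2) else 0) = ![x, y, z] i := by
      decide
    ext i j
    have hs : sel (code 0, code 1, code 2) j.1 = code j := by fin_cases j <;> rfl
    rw [matOf, Matrix.of_apply, hs, hx]
    fin_cases i <;> rfl
  have hlt : ∀ j, code j < 8 := fun j => by
    have := ZMod.val_lt (A.1 0 j); have := ZMod.val_lt (A.1 1 j); have := ZMod.val_lt (A.1 2 j)
    simp only [code]; omega
  have hdet : (matOf (code 0, code 1, code 2)).det = 1 := by rw [hA]; exact A.2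
  have hcov := covChk_eq
  simp only [covChk, List.all_eq_true, List.mem_range, Bool.or_eq_true, Bool.and_eq_true,
    beq_iff_eq, decide_eq_true_eq] at hcov
  have hsing' : ∀ a b c : Fin 8,
      ((((((a.1 = 0 ∨ b.1 = 0) ∨ c.1 = 0) ∨ a.1 = b.1) ∨ a.1 = c.1) ∨ b.1 = c.1) ∨ a.1 ^^^ b.1 = c.1) →
      matOf (a.1, b.1, c.1) 0 0 * matOf (a.1, b.1, c.1) 1 1 * matOf (a.1, b.1, c.1) 2 2
        - matOf (a.1, b.1, c.1) 0 0 * matOf (a.1, b.1, c.1) 1 2 * matOf (a.1, b.1, c.1) 2 1
        - matOf (a.1, b.1, c.1) 0 1 * matOf (a.1, b.1, c.1) 1 0 * matOf (a.1, b.1, c.1) 2 2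
        + matOf (a.1, b.1, c.1) 0 1 * matOf (a.1, b.1, c.1) 1 2 * matOf (a.1, b.1, c.1) 2 0
        + matOf (a.1, b.1, c.1) 0 2 * matOf (a.1, b.1, c.1) 1 0 * matOf (a.1, b.1, c.1) 2 1
        - matOf (a.1, b.1, c.1) 0 2 * matOf (a.1, b.1, c.1) 1 1 * matOf (a.1, b.1, c.1) 2 0 = 0 := by decide +kernel
  rcases hcov _ (hlt 0) _ (hlt 1) _ (hlt 2) with h | ⟨h, h1, h2, h3⟩
  · have := hsing' ⟨_, hlt 0⟩ ⟨_, hlt 1⟩ ⟨_, hlt 2⟩ h
    rw [← Matrix.det_fin_three, hdet] at this
    exact absurd this one_ne_zero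
  generalize covIdx.getD _ _ = p at h h1 h2 h3
  refine ⟨⟨mover p.1, mover_mem h1⟩ * (⟨signC p.2.1 h2, signC_mem h2⟩ * ⟨permD p.2.2 h3, permD_mem h3⟩),
    Subtype.ext ?_⟩
  rw [coe_slHom, cols_mul, cols_mul, cols_mover h1, cols_signC h2, cols_permD h3]
  show matOf (covTriple p) = A.1
  rw [h, hA]

theorem slHom_ker {η : cent7} (h : slHom η = 1) :
    ∃ j < 7, (η : Co0) = g7 ^ j ∨ (η : Co0) = negOne * g7 ^ j := by
  obtain ⟨η, hη⟩ := η
  have h1 : η ∈ stdStab := by
    rw [← clsStab_R_one]; exact act_of_slHom h (n := 1) (by norm_num)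
  obtain ⟨σ, hσ, c, hc, rfl⟩ := exists_mono_of_mem h1
  obtain ⟨e1, e2⟩ := mono_comm hσ hc (τ := sevenM) (τ' := sevenM) (mem_cent7.1 hη)
  obtain ⟨d, hd, hdσ⟩ := exists_listed (le_refl 1) (by norm_num)
    (show Twists 1 σ from ⟨hσ, by rw [pow_one]; exact e1⟩)
  rw [if_pos rfl] at hd
  obtain ⟨k, hk, hkd⟩ := List.getElem_of_mem hd
  have hk42 : k < 42 := perm_chk.1 ▸ hk
  have hgd : sevenCent.getD k 0 = d := by rw [List.getD_eq_getElem _ _ hk, hkd]
  -- the code word
  have hpow : ∀ (j : ℕ) (p : GolayPt), (sevenZ ^ j) p ∈ c ↔ p ∈ c := fun j p => by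
    induction j with
    | zero => rfl
    | succ j ih => rw [pow_succ', Equiv.Perm.mul_apply]; exact (e2 _).trans ih
  have hor : ∀ i : GolayPt, i ∈ c ↔ Golay.pt (orbR.getD (orb (Golay.idx i)) 0) ∈ c := fun i => by
    obtain ⟨h6, j, -, hj⟩ := orb_chk _ (Golay.idx_lt i)
    have hr : ∀ k < 6, orbR.getD k 0 < 24 := by decide +kernel
    rw [← hpow j (Golay.pt _)]
    refine iff_of_eq (congrArg (· ∈ c) (Golay.idx_injective ?_))
    rw [idx_zpow, Golay.idx_pt (hr _ h6), hj]
  let bit : ℕ → ℕ := fun k => if Golay.pt (orbR.getD k 0) ∈ c then 1 else 0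
  let s := bit 0 + 2 * bit 1 + 4 * bit 2 + 8 * bit 3 + 16 * bit 4 + 32 * bit 5
  have hbit : ∀ k, bit k ≤ 1 := fun k => by simp only [bit]; split_ifs <;> simp
  have hs : s < 64 := by
    have := hbit 0; have := hbit 1; have := hbit 2; have := hbit 3; have := hbit 4; have := hbit 5
    simp only [s]; omega
  have hsb : ∀ k < 6, s.testBit k = decide (bit k = 1) := by
    have key : ∀ a b c d e f : Fin 2, ∀ k : Fin 6,
        (a.1 + 2 * b.1 + 4 * c.1 + 8 * d.1 + 16 * e.1 + 32 * f.1).testBit k.1 =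
          decide (![a.1, b.1, c.1, d.1, e.1, f.1] k = 1) := by decide +kernel
    intro k hk
    have hb' : ∀ k, bit k < 2 := fun k => Nat.lt_succ_of_le (hbit k)
    have := key ⟨_, hb' 0⟩ ⟨_, hb' 1⟩ ⟨_, hb' 2⟩ ⟨_, hb' 3⟩ ⟨_, hb' 4⟩ ⟨_, hb' 5⟩ ⟨k, hk⟩
    interval_cases k <;> exact this
  have hcs : c = Golay.pts (omask s) := by
    ext i
    rw [Golay.mem_pts, (omask_bit s hs).2 _ (Golay.idx_lt i), hsb _ (orb_chk _ (Golay.idx_lt i)).1, hor i]
    simp [bit]
  obtain ⟨w, hw, hwc⟩ := omask_code s hs (by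
    have := Golay.mem_supports_iff.1 (hcs ▸ hc)
    rwa [Golay.maskOf_pts (omask_bit s hs).1] at this)
  have hcw : c = fixSet w := by rw [fixSet, hwc, hcs]
  have hdec : mono σ hσ c hc = signC w hw * permD k hk42 := by
    refine co0_ext fun v => Subtype.ext ?_
    rw [mul_smul, signC, vec_signEl, vec_mono]
    funext i
    simp only [permD, vec_perm, signedPerm, hgd, hdσ, hcw]
  have hker := ker_chk hw hk42 (matOf_inj ?_ ?_ ?_ ?_)
  · obtain ⟨hf, j, hj, hji⟩ := hker
    refine ⟨j, hj, ?_⟩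
    have hp : permD k hk42 = g7 ^ j := by
      rw [permD, g7, ← map_pow]
      congr 1
      refine Subtype.ext (Equiv.ext fun p => Golay.idx_injective ?_)
      rw [idx_pow_sevenM]
      show Golay.idx (Golay.toPerm (sevenCent.getD k 0) p) = _
      rw [Golay.idx_toPerm (Golay.validPerm_of_isAut (perm_chk.2 k hk42).1)]
      exact hji _ (Golay.idx_lt p)
    show mono σ hσ c hc = g7 ^ j ∨ mono σ hσ c hc = negOne * g7 ^ j
    rw [hdec, hp]
    rcases hf with hf | hf
    · left
      have : signC w hw = 1 := co0_ext fun v => Subtype.ext (by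
        rw [signC, vec_signEl, one_smul]; funext i; simp [fixSet, hf, -List.getD_eq_getElem?_getD])
      rw [this, one_mul]
    · right
      congr 1
      refine co0_ext fun v => Subtype.ext ?_
      rw [signC, vec_signEl, vec_negOne]
      funext i
      simp [fixSet, hf, Golay.pts_full, -List.getD_eq_getElem?_getD]
  all_goals
    have e : cols ⟨mono σ hσ c hc, hη⟩ = compT (wordTr.getD w (0, 0, 0)) (permTr.getD k (0, 0, 0)) := by
      rw [← cols_signC hw, ← cols_permD hk42, ← cols_mul]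
      exact congrArg cols (Subtype.ext hdec)
    rw [← e]
  · exact (act_spec _ (n := 1) (by norm_num)).1
  · exact (act_spec _ (n := 2) (by norm_num)).1
  · exact (act_spec _ (n := 4) (by norm_num)).1
  · rw [← coe_slHom, h]; rfl

theorem g7_mem : g7 ∈ cent7 := mem_cent7.2 rfl

end Cfsg.Agent.MonsterSeven
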