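import Cfsg.Agent.Lib.MonsterSeven.FixedChecks
import Cfsg.Agent.Lib.GolayClasses.Seven

/-!
# The classes fixed by an element of order seven

* `g7` : a permutation element of order seven;  `R n` : the 64 short representatives
* `exists_idx`, `idx_unique` : a fixed class is the class of exactly one `R n`
* `cg_xor` : addition of the classes is `^^^` on the indices
-/

set_option autoImplicit false
set_option maxRecDepth 100000
open Cfsg

namespace Cfsg.Agent.MonsterSeven

open Leech MonsterLattice GolayClasses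

/-- The permutation of order seven in `M24`. -/
noncomputable def sevenM : M24 := ⟨sevenZ, sevenZ_mem⟩

/-- The permutation element of order seven. -/
noncomputable def g7 : Co0 := permHom sevenM

theorem vec_perm (σ : M24) (v : leechLattice) (i : GolayPt) :
    ((permHom σ • v : leechLattice) : GolayPt → ℤ) i = (v : GolayPt → ℤ) (σ.1.symm i) :=
  vec_permEl σ.1 σ.2 v i

theorem g7_seven : g7 ^ 7 = 1 := by
  rw [g7, ← map_pow, show sevenM ^ 7 = 1 from Subtype.ext (by
    rw [SubmonoidClass.coe_pow, OneMemClass.coe_one, sevenM, ← orderOf_sevenZ, pow_orderOf_eq_one]),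
    map_one]

/-- The representative. -/
def R (n : ℕ) : leechLattice := vecL (repL n)

theorem coe_R {n : ℕ} (hn : n < 64) : (R n : GolayPt → ℤ) = vOf (repL n) :=
  coe_vecL (inLatF_eq _ ▸ (rep_ok n hn).1)

theorem g7_R {n : ℕ} (hn : n < 64) : g7 • R n = R n := by
  refine Subtype.ext (funext fun i => ?_)
  rw [g7, vec_perm, coe_R hn]
  show (repL n).getD _ 0 = (repL n).getD _ 0
  conv_rhs => rw [← Equiv.apply_symm_apply sevenM.1 i]
  generalize sevenM.1.symm i = p
  rw [show Golay.idx (sevenM.1 p) = Golay.fn sevenGen (Golay.idx p) from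
    Golay.idx_toPerm valid_sevenGen p]
  exact ((rep_ok n hn).2 _ (Golay.idx_lt p)).symm

theorem repL_zero : repL 0 = List.replicate 24 0 := by decide +kernel

theorem R_zero : R 0 = 0 := by
  refine Subtype.ext (funext fun i => ?_)
  rw [coe_R (by norm_num), repL_zero]
  simp only [vOf, List.getD_eq_getElem?_getD, List.getElem?_replicate, Golay.idx_lt i, if_true]
  rfl

theorem xor_lt {a b : ℕ} (ha : a < 64) (hb : b < 64) : a ^^^ b < 64 :=
  Nat.xor_lt_two_pow (n := 6) ha hb

theorem vOf_range (f : ℕ → ℤ) : vOf ((List.range 24).map f) = fun i => f (Golay.idx i) := by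
  funext i
  simp [vOf, List.getD_eq_getElem?_getD, List.getElem?_map, List.getElem?_range (Golay.idx_lt i)]

theorem cg_xor_pow {a k : ℕ} (ha : a < 64) (hk : k < 6) :
    Cg (R a + R (2 ^ k)) (R (a ^^^ 2 ^ k)) := by
  have h := closedChk_eq
  simp only [closedChk, List.all_eq_true, List.mem_range] at h
  have hk' : 2 ^ k < 64 := Nat.pow_lt_pow_right (by norm_num) hk (m := k) (n := 6)
  refine cg_of_cgL ?_ (coe_R (xor_lt ha hk')) (h a ha k hk)
  rw [AddSubgroup.coe_add, coe_R ha, coe_R hk', vOf_range]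
  rfl

theorem cg_xor {a b : ℕ} (ha : a < 64) (hb : b < 64) : Cg (R a + R b) (R (a ^^^ b)) := by
  induction b using Nat.strong_induction_on generalizing a with
  | _ b ih =>
    by_cases h0 : b = 0
    · subst h0
      rw [R_zero, add_zero, Nat.xor_zero]
      exact cg_refl _
    · obtain ⟨k, hk, hlt⟩ := (by decide +kernel :
        ∀ b < 64, b ≠ 0 → ∃ k < 6, b ^^^ 2 ^ k < b) b hb h0
      have h1 := cg_xor_pow (lt_trans hlt hb) hk
      rw [Nat.xor_assoc, Nat.xor_self, Nat.xor_zero] at h1
      have h2 := cg_xor_pow (xor_lt ha (lt_trans hlt hb)) hk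
      rw [Nat.xor_assoc a, Nat.xor_assoc b, Nat.xor_self, Nat.xor_zero] at h2
      refine ((Cg.add' (cg_refl (R a)) h1.symm).trans ?_).trans h2
      rw [← add_assoc]
      exact Cg.add' (ih _ hlt ha (lt_trans hlt hb)) (cg_refl _)

theorem sqNorm_R {n : ℕ} (hn : n < 64) :
    sqNorm (R n : GolayPt → ℤ) = dotL (repL n) (repL n) := by
  rw [coe_R hn, ← vOf_dotProduct _ (by exact length_row _ : (repL n).length = 24)]
  simp [sqNorm, dotProduct, sq]

theorem norm_R {n : ℕ} (hn : n < 64) (h0 : n ≠ 0) : sqNorm (R n : GolayPt → ℤ) = 32 ∨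
    sqNorm (R n : GolayPt → ℤ) = 48 ∨ sqNorm (R n : GolayPt → ℤ) = 64 := by
  rw [sqNorm_R hn]; exact (R_norm_chk n hn h0).1

theorem norm_R_eq {n : ℕ} (hn : n < 64) (h0 : n ≠ 0) :
    sqNorm (R n : GolayPt → ℤ) = 64 ↔ (n < 8 ∨ n % 8 = 0) := by
  rw [sqNorm_R hn]; exact (R_norm_chk n hn h0).2

theorem idx_unique {v : leechLattice} {a b : ℕ} (ha : a < 64) (hb : b < 64) (h : Cg v (R a))
    (h' : Cg v (R b)) : a = b := by
  by_contra hne
  have h0 : a ^^^ b ≠ 0 := fun e => hne (Nat.xor_eq_zero_iff.1 e)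
  refine not_cg_zero (norm_R (xor_lt ha hb) h0) ?_
  exact (cg_xor ha hb).symm.trans ((Cg.add' (h.symm.trans h') (cg_refl _)).trans (cg_twice _))

/-- A class in the span of the representatives. -/
def InSpan (v : leechLattice) : Prop := ∃ n < 64, Cg v (R n)

theorem InSpan.add {v w : leechLattice} : InSpan v → InSpan w → InSpan (v + w) := by
  rintro ⟨a, ha, h⟩ ⟨b, hb, h'⟩
  exact ⟨_, xor_lt ha hb, (Cg.add' h h').trans (cg_xor ha hb)⟩

theorem InSpan.zero : InSpan 0 := ⟨0, by norm_num, R_zero ▸ cg_refl _⟩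

theorem InSpan.zsmul {v : leechLattice} (h : InSpan v) (k : ℤ) : InSpan (k • v) := by
  have hn : ∀ m : ℕ, InSpan (m • v) := fun m => by
    induction m with
    | zero => rw [zero_nsmul]; exact InSpan.zero
    | succ m ih => rw [succ_nsmul]; exact ih.add h
  obtain ⟨m, rfl | rfl⟩ := k.eq_nat_or_neg
  · rw [natCast_zsmul]; exact hn m
  · obtain ⟨n, hn', hc⟩ := hn m
    exact ⟨n, hn', by rw [neg_zsmul, natCast_zsmul]; exact cg_neg_left hc⟩

theorem InSpan.sum {ι : Type*} (s : Finset ι) (f : ι → leechLattice) (h : ∀ i, InSpan (f i)) :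
    InSpan (∑ i ∈ s, f i) := by
  classical
  induction s using Finset.induction_on with
  | empty => rw [Finset.sum_empty]; exact InSpan.zero
  | insert a s ha ih => rw [Finset.sum_insert ha]; exact (h a).add ih

theorem digits (c : ℕ → ℕ) (hc : ∀ k, c k < 4) : ∀ k < 6,
    (c 0 + 4 * c 1 + 16 * c 2 + 64 * c 3 + 256 * c 4 + 1024 * c 5) / 4 ^ k % 4 = c k := by
  intro k hk
  have := hc 0; have := hc 1; have := hc 2; have := hc 3; have := hc 4; have := hc 5
  interval_cases k <;> norm_num <;> omega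

theorem inSpan_of_fixed {f : leechLattice} (hf : g7 • f = f) : InSpan f := by
  have hσ : ∀ p, (f : GolayPt → ℤ) (sevenZ p) = (f : GolayPt → ℤ) p := fun p => by
    have := congrFun (congrArg Subtype.val hf) (sevenZ p)
    rw [g7, vec_perm] at this
    rw [← this]
    exact congrArg _ (Equiv.symm_apply_apply sevenZ p)
  let val : ℕ → ℤ := fun k => (f : GolayPt → ℤ) (Golay.pt (orbR.getD k 0))
  have hval : ∀ i, (f : GolayPt → ℤ) i = val (orb (Golay.idx i)) := by
    intro i
    obtain ⟨-, j, -, hj⟩ := orb_chk _ (Golay.idx_lt i)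
    have hr : orbR.getD (orb (Golay.idx i)) 0 < 24 := by
      have : ∀ k < 6, orbR.getD k 0 < 24 := by decide +kernel
      exact this _ (orb_chk _ (Golay.idx_lt i)).1
    set r := orbR.getD (orb (Golay.idx i)) 0 with hr'
    have e : i = (sevenZ ^ j) (Golay.pt r) := Golay.idx_injective (by
      rw [idx_zpow, Golay.idx_pt hr, hj])
    show (f : GolayPt → ℤ) i = (f : GolayPt → ℤ) (Golay.pt r)
    rw [e]
    clear e hj
    induction j with
    | zero => rfl
    | succ j ih => rw [pow_succ', Equiv.Perm.mul_apply, hσ, ih]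
  obtain ⟨m', a, h1, -, -⟩ := Leech.mem_iff.1 f.2
  let m : ℤ := m' % 2
  let c : ℕ → ℕ := fun k => (((val k - m) / 2) % 4).toNat
  let d : ℕ → ℤ := fun k => (val k - m) / 2 / 4
  have hc : ∀ k, c k < 4 := fun k => by simp only [c]; omega
  let s := c 0 + 4 * c 1 + 16 * c 2 + 64 * c 3 + 256 * c 4 + 1024 * c 5
  let e : leechLattice := ∑ k ∈ Finset.range 6, d k • vecL (eightOrbL k)
  have he : ∀ i, (e : GolayPt → ℤ) i = 8 * d (orb (Golay.idx i)) := by
    intro i
    simp only [e, AddSubmonoidClass.coe_finset_sum, Finset.sum_apply]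
    rw [Finset.sum_eq_single (orb (Golay.idx i))]
    · rw [AddSubgroup.coe_zsmul, coe_vecL (eightOrb_chk _ (orb_chk _ (Golay.idx_lt i)).1).1,
        Pi.smul_apply, eightOrbL, vOf_range]
      simp [mul_comm]
    · intro k hk hne
      rw [AddSubgroup.coe_zsmul, coe_vecL (eightOrb_chk _ (Finset.mem_range.1 hk)).1,
        Pi.smul_apply, eightOrbL, vOf_range]
      simp [hne.symm]
    · exact fun h => absurd (Finset.mem_range.2 (orb_chk _ (Golay.idx_lt i)).1) h
  have hfe : ((f - e : leechLattice) : GolayPt → ℤ) = vOf (candL m s) := by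
    funext i
    rw [AddSubgroup.coe_sub, Pi.sub_apply, he, candL, vOf_range]
    simp only [s, digits c hc _ (orb_chk _ (Golay.idx_lt i)).1]
    have hp : val (orb (Golay.idx i)) = m' + 2 * a i := (hval i).symm.trans (h1 i)
    have hfi := hval i
    simp only [c, d, m]
    omega
  have hin : inLatL (candL m s) = true := inLatL_of_mem (by simp [candL]) (hfe ▸ (f - e).2)
  have hs : s < 4096 := by
    have := hc 0; have := hc 1; have := hc 2; have := hc 3; have := hc 4; have := hc 5
    simp only [s]; omega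
  have hm : m = 0 ∨ m = 1 := by simp only [m]; omega
  obtain ⟨mn, hmn, hm1⟩ : ∃ mn : ℕ, m = mn ∧ mn ≤ 1 := ⟨m.toNat, by omega, by omega⟩
  obtain ⟨T, hspan⟩ : ∃ T, spanChk mn T = true := by
    obtain rfl | rfl : mn = 0 ∨ mn = 1 := by omega
    exacts [⟨_, spanChk_zero⟩, ⟨_, spanChk_one⟩]
  rw [hmn] at hfe hin
  have hq : quick mn s = true := quick_of_mem hm1 hin
  simp only [spanChk, Bool.and_eq_true, List.all_eq_true, List.mem_range, Bool.or_eq_true,
    List.any_eq_true, Bool.not_eq_true', decide_eq_true_eq, beq_iff_eq] at hspan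
  obtain ⟨⟨s', n⟩, hT, (rfl : s' = s)⟩ := ((hspan.2 s hs).resolve_left (by rintro (h | h) <;> simp [hq, inLatF_eq, hin] at h))
  obtain ⟨hn, hcg⟩ := hspan.1 _ hT
  have h2 : InSpan (f - e) := ⟨n, hn, cg_of_cgL hfe (coe_R hn) hcg⟩
  have h3 : InSpan e := InSpan.sum _ _ fun k => by
    refine InSpan.zsmul ?_ _
    by_cases hk : inLatL (eightOrbL k) = true
    · by_cases hk6 : k < 6
      · exact ⟨1, by norm_num, cg_of_cgL (coe_vecL hk) (coe_R (by norm_num)) (eightOrb_chk k hk6).2⟩
      · have : vecL (eightOrbL k) = 0 := Subtype.ext (by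
          rw [coe_vecL hk, eightOrbL, vOf_range, ZeroMemClass.coe_zero]
          funext i
          rw [if_neg (by have := (orb_chk _ (Golay.idx_lt i)).1; omega)]
          rfl)
        rw [this]; exact InSpan.zero
    · rw [vecL, dif_neg hk]; exact InSpan.zero
  simpa using h2.add h3

/-- A class fixed by the element. -/
def Fix (v : leechLattice) : Prop := Cg (g7 • v) v

theorem fix_R {n : ℕ} (hn : n < 64) : Fix (R n) := by rw [Fix, g7_R hn]; exact cg_refl _

theorem exists_idx {v : leechLattice} (h : Fix v) : ∃ n < 64, Cg v (R n) := by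
  have hp : ∀ j : ℕ, Cg (g7 ^ j • v) v := fun j => by
    induction j with
    | zero => rw [pow_zero, one_smul]; exact cg_refl v
    | succ j ih => rw [pow_succ', mul_smul]; exact (ih.smul g7).trans h
  have hsum : ∀ m : ℕ, Cg (∑ j ∈ Finset.range m, g7 ^ j • v) (m • v) := fun m => by
    induction m with
    | zero => rw [Finset.sum_range_zero, zero_nsmul]; exact cg_refl _
    | succ m ih => rw [Finset.sum_range_succ, succ_nsmul]; exact Cg.add' ih (hp m)
  have hfix : g7 • (∑ j ∈ Finset.range 7, g7 ^ j • v) = ∑ j ∈ Finset.range 7, g7 ^ j • v := by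
    rw [← addHom_apply, map_sum]
    simp only [addHom_apply, ← mul_smul, ← pow_succ']
    have h1 := Finset.sum_range_succ' (fun j => g7 ^ j • v) 7
    rw [Finset.sum_range_succ (fun j => g7 ^ j • v) 7, g7_seven, pow_zero] at h1
    exact (add_right_cancel h1).symm
  obtain ⟨n, hn, hc⟩ := inSpan_of_fixed hfix
  refine ⟨n, hn, Cg.trans ?_ hc⟩
  refine Cg.trans ?_ (hsum 7).symm
  exact cg_iff.2 ⟨-((3 : ℕ) • v), by abel⟩

end Cfsg.Agent.MonsterSeven
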