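import Cfsg.Agent.Lib.MonsterSeven.Lists
import Cfsg.Agent.Lib.MonsterSeven.Data
import Cfsg.Agent.Lib.GolayClasses.Seven

/-!
# Kernel checks for the classes fixed by an element of order seven
-/

set_option autoImplicit false
set_option maxRecDepth 100000
open Cfsg

namespace Cfsg.Agent.MonsterSeven

open Leech GolayClasses

/-- The list of a representative. -/
def repL (n : ℕ) : List ℤ := row (repRows.getD n 0)

theorem rep_ok : ∀ n < 64, inLatF (repL n) = true ∧
    ∀ i < 24, (repL n).getD (Golay.fn sevenGen i) 0 = (repL n).getD i 0 := by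
  decide +kernel

/-- Closure of the representatives under addition. -/
def closedChk : Bool :=
  (List.range 64).all fun a => (List.range 6).all fun k =>
    cgL ((List.range 24).map fun j => (repL a).getD j 0 + (repL (2 ^ k)).getD j 0) (repL (a ^^^ 2 ^ k))

theorem closedChk_eq : closedChk = true := by decide +kernel

theorem R_norm_chk : ∀ n < 64, n ≠ 0 → (dotL (repL n) (repL n) = 32 ∨ dotL (repL n) (repL n) = 48 ∨
      dotL (repL n) (repL n) = 64) ∧
      (dotL (repL n) (repL n) = 64 ↔ (n < 8 ∨ n % 8 = 0)) := by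
  decide +kernel

/-- The orbit of a point. -/
def orb (j : ℕ) : ℕ := orbL.getD j 0

theorem orb_chk : ∀ i < 24, orb i < 6 ∧ ∃ j < 7, zIter j (orbR.getD (orb i) 0) = i := by
  decide +kernel

/-- Eight times an orbit. -/
def eightOrbL (k : ℕ) : List ℤ := (List.range 24).map fun j => if orb j = k then 8 else 0

theorem eightOrb_chk : ∀ k < 6, inLatL (eightOrbL k) = true ∧ cgL (eightOrbL k) (repL 1) = true := by
  decide +kernel

/-- The vector with value `m + 2 d` on each orbit, `d` a digit of `s` to base four. -/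
def candL (m : ℤ) (s : ℕ) : List ℤ :=
  (List.range 24).map fun j => m + 2 * ((s / 4 ^ orb j % 4 : ℕ) : ℤ)

/-- The sum of the digits over the points, modulo four. -/
def quick (m s : ℕ) : Bool :=
  (7 * (s % 4) + s / 4 % 4 + 7 * (s / 16 % 4) + 7 * (s / 64 % 4) + s / 256 % 4 + s / 1024 % 4) % 4
    == 2 * m % 4

/-- Every candidate is tabulated. -/
def spanChk (m : ℕ) (T : List (ℕ × ℕ)) : Bool :=
  (T.all fun p => decide (p.2 < 64) && cgL (candL m p.1) (repL p.2)) &&
    (List.range 4096).all fun s => !quick m s || !inLatF (candL m s) || T.any fun p => p.1 == s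

theorem spanChk_zero : spanChk 0 spanTab0 = true := by decide +kernel

theorem spanChk_one : spanChk 1 spanTab1 = true := by decide +kernel

theorem quick_of_mem {m s : ℕ} (hm : m ≤ 1) (h : inLatL (candL (m : ℤ) s) = true) :
    quick m s = true := by
  have he : (candL (m : ℤ) s).map (fun y => (y - ((m : ℤ) + 2 * ((s / 4 ^ orb 0 % 4 : ℕ) : ℤ)) % 2) / 2) =
      (List.range 24).map fun j => ((s / 4 ^ orb j % 4 : ℕ) : ℤ) := by
    rw [candL, List.map_map]
    refine List.map_congr_left fun j _ => ?_
    simp only [Function.comp_apply]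
    omega
  have hc : candL (m : ℤ) s = ((m : ℤ) + 2 * ((s / 4 ^ orb 0 % 4 : ℕ) : ℤ)) ::
      (List.range' 1 23).map fun j => (m : ℤ) + 2 * ((s / 4 ^ orb j % 4 : ℕ) : ℤ) := rfl
  rw [hc] at h
  simp only [inLatL, inLatHalf, ← hc, Bool.and_eq_true, beq_iff_eq] at h
  obtain ⟨-, h2, -⟩ := h
  rw [he, sumL_eq_sum, List.length_map, List.length_range] at h2
  rw [Finset.sum_congr rfl (fun k hk => by
    rw [List.getD_eq_getElem?_getD, List.getElem?_map, List.getElem?_range (Finset.mem_range.1 hk),
      Option.map_some, Option.getD_some] :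
    ∀ k ∈ Finset.range 24, _ = ((s / 4 ^ orb k % 4 : ℕ) : ℤ))] at h2
  simp only [quick, beq_iff_eq]
  simp [Finset.sum_range_succ, orb, orbL] at h2
  omega

end Cfsg.Agent.MonsterSeven
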