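import Cfsg.Agent.Lib.MonsterSeven.Cent
import Cfsg.Agent.Lib.LargeExtraspecial.MonsterBaby

/-!
# Adapting a setting of Monster type to an element of order seven

* `conjSetting` : a setting transported by an element of `Co0`
* `conj_mem_zpowers` : conjugacy of subgroups of order seven when 49 does not divide the order
* `natCard_cent_pair` : 49 does not divide the order of the joint centraliser of two commuting conjugates
* `exists_adapted` : a setting with `R 1 ↦ s` and `b ↦ g7`
-/

set_option autoImplicit false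
open Cfsg

namespace Cfsg.Agent.MonsterSeven

open Leech MonsterLattice Monster

variable {G : Type*} [Group G] {Q : Subgroup G} {z : G}

/-- A setting transported by an element of `Co0`. -/
def conjSetting (M : Setting Q z) (k : Co0) : Setting Q z where
  rel v x := M.rel (k • v) x
  κ := (MulAut.conj (QuotientGroup.mk k : Spor.Co1)⁻¹).toMonoidHom.comp M.κ
  D := M.D
  extra := M.extra
  card_Q := M.card_Q
  κ_surj := (MulAut.conj _).surjective.comp M.κ_surj
  κ_ker h := by
    rw [← M.κ_ker h, MonoidHom.comp_apply, MulEquiv.coe_toMonoidHom, EmbeddingLike.map_eq_one_iff]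
  rel_mem h := M.rel_mem h
  exists_rel v := M.exists_rel _
  rel_surj x hx := by
    obtain ⟨v, hv⟩ := M.rel_surj x hx
    exact ⟨k⁻¹ • v, by rwa [smul_inv_smul]⟩
  rel_z h := M.rel_z h
  rel_cg {v w x y} hv hw := by
    rw [← M.rel_cg hv hw]
    exact ⟨fun h => h.smul k, fun h => by simpa [inv_smul_smul] using h.smul k⁻¹⟩
  rel_add {v w x y} hv hw := by rw [smul_vadd]; exact M.rel_add hv hw
  rel_equiv g h hgh v x hv := by
    have e : (QuotientGroup.mk (k * g * k⁻¹) : Spor.Co1) = M.κ h := by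
      rw [QuotientGroup.mk_mul, QuotientGroup.mk_mul, QuotientGroup.mk_inv, hgh, MonoidHom.comp_apply,
        MulEquiv.coe_toMonoidHom, MulAut.conj_apply, inv_inv]
      group
    have h1 := M.rel_equiv _ h e hv
    rwa [mul_smul, mul_smul, inv_smul_smul] at h1
  exists_conj := M.exists_conj

theorem conj_mem_zpowers {H : Type*} [Group H] (S : Subgroup H) [Finite S]
    (h49 : ¬ 49 ∣ Nat.card S) {a b : H} (ha : a ∈ S) (hb : b ∈ S) (ha7 : orderOf a = 7)
    (hb7 : orderOf b = 7) : ∃ m ∈ S, m * a * m⁻¹ ∈ Subgroup.zpowers b := by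
  haveI : Fact (Nat.Prime 7) := ⟨by norm_num⟩
  have hf : ∀ c : S, orderOf c = 7 →
      Nat.card (Subgroup.zpowers c) = 7 ^ (Nat.card S).factorization 7 := by
    intro c hc
    have h7 : 7 ∣ Nat.card S := hc ▸ orderOf_dvd_natCard c
    have h0 : Nat.card S ≠ 0 := Nat.card_pos.ne'
    have h1 := (Nat.Prime.pow_dvd_iff_le_factorization (by norm_num : Nat.Prime 7) h0).1
      (show 7 ^ 1 ∣ Nat.card S by simpa using h7)
    have h2 : ¬ 2 ≤ (Nat.card S).factorization 7 := fun h =>
      h49 ((Nat.Prime.pow_dvd_iff_le_factorization (by norm_num : Nat.Prime 7) h0).2 h)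
    rw [Nat.card_zpowers, hc, show (Nat.card S).factorization 7 = 1 by omega, pow_one]
  have ha' : orderOf (⟨a, ha⟩ : S) = 7 := by rw [Subgroup.orderOf_mk, ha7]
  have hb' : orderOf (⟨b, hb⟩ : S) = 7 := by rw [Subgroup.orderOf_mk, hb7]
  obtain ⟨m, hm⟩ := MulAction.exists_smul_eq S
    (Sylow.ofCard _ (hf _ ha')) (Sylow.ofCard _ (hf _ hb'))
  refine ⟨m, m.2, ?_⟩
  have h1 : m * (⟨a, ha⟩ : S) * m⁻¹ ∈ Subgroup.zpowers (⟨b, hb⟩ : S) := by
    have h2 := congrArg (fun P : Sylow 7 S => (P : Subgroup S)) hm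
    simp only [Sylow.coe_subgroup_smul, Sylow.coe_ofCard] at h2
    rw [← h2, Subgroup.mem_pointwise_smul_iff_inv_smul_mem]
    simp [MulAut.smul_def, mul_assoc]
  obtain ⟨j, hj⟩ := Subgroup.mem_zpowers_iff.1 h1
  exact Subgroup.mem_zpowers_iff.2 ⟨j, by simpa using congrArg Subtype.val hj⟩

theorem natCard_stdImage :
    Nat.card (stdStab.map (QuotientGroup.mk' (Subgroup.center Co0))) = 2 ^ 11 * 244823040 := by
  have h := natCard_map_mul (QuotientGroup.mk' (Subgroup.center Co0)) stdStab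
  rw [QuotientGroup.ker_mk', inf_eq_right.2 (clsStab_R_one ▸ center_le_clsStab (R 1)),
    Leech.natCard_center, natCard_stdStab] at h
  omega

theorem not_dvd_stdImage :
    ¬ 49 ∣ Nat.card (stdStab.map (QuotientGroup.mk' (Subgroup.center Co0))) := by
  rw [natCard_stdImage]; norm_num

theorem exists_normal_form [Finite G] (M : Setting Q z) {s : G} (hsQ : s ∈ Q) (hs : IsConj z s)
    (hne : s ≠ z) : ∃ M' : Setting Q z, M'.rel (R 1) s := by
  obtain ⟨v, hv, hn⟩ := M.rep64 hsQ hs hne
  have h1 : sqNorm (R 1 : GolayPt → ℤ) = 64 :=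
    (norm_R_eq (by norm_num) (by norm_num)).2 (by norm_num)
  obtain ⟨g, hg⟩ := transitive (w := R 1) (Or.inr (Or.inr hn)) (h1.trans hn.symm)
  refine ⟨conjSetting M g⁻¹, M.rel_of_cg hv ?_⟩
  have := (hg.smul g⁻¹)
  rwa [inv_smul_smul] at this

theorem centralizer_pair (z s : G) : Subgroup.centralizer ({z, s} : Set G) =
    Subgroup.centralizer ({z} : Set G) ⊓ Subgroup.centralizer ({s} : Set G) := by
  ext x
  simp [Subgroup.mem_centralizer_iff]

theorem natCard_cent_pair [Finite G] (M : Setting Q z) {s : G} (hs : M.rel (R 1) s) :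
    7 ∣ Nat.card (Subgroup.centralizer ({z, s} : Set G)) ∧
      ¬ 49 ∣ Nat.card (Subgroup.centralizer ({z, s} : Set G)) := by
  set C := Subgroup.centralizer ({z} : Set G)
  set S := (Subgroup.centralizer ({s} : Set G)).subgroupOf C with hS
  have hc : Nat.card (Subgroup.centralizer ({z, s} : Set G)) = Nat.card S := by
    rw [centralizer_pair, hS, ← Subgroup.inf_subgroupOf_right,
      inf_comm (a := Subgroup.centralizer ({s} : Set G))]
    exact (Nat.card_congr (Subgroup.subgroupOfEquivOfLe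
      (inf_le_left : C ⊓ Subgroup.centralizer ({s} : Set G) ≤ C)).toEquiv).symm
  have h := natCard_map_mul M.κ S
  rw [hS, M.map_centralizer hs (Or.inr (Or.inr ((norm_R_eq (by norm_num) (by norm_num)).2 (by norm_num)))),
    clsStab_R_one, natCard_stdImage] at h
  haveI : Fact (Nat.Prime 2) := ⟨Nat.prime_two⟩
  have hp : IsPGroup 2 (S ⊓ M.κ.ker : Subgroup C) :=
    ((LargeExtraspecial.isPGroup_of_extraspecial M.extra).comap_subtype (K := C)).to_le
      (le_trans inf_le_right fun x hx => (M.κ_ker x).1 hx)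
  obtain ⟨n, hn⟩ := IsPGroup.iff_card.mp hp
  rw [hn] at h
  rw [hc, hS, ← h]
  refine ⟨Dvd.dvd.mul_right (by norm_num) _, fun h49 => ?_⟩
  have : 49 ∣ 2 ^ 11 * 244823040 :=
    (Nat.Coprime.pow_right n (by norm_num : Nat.Coprime 49 2)).dvd_of_dvd_mul_right h49
  norm_num at this

theorem mk_g7_order : orderOf (QuotientGroup.mk g7 : Spor.Co1) = 7 := by
  haveI : Fact (Nat.Prime 7) := ⟨by norm_num⟩
  refine orderOf_eq_prime (by rw [← QuotientGroup.mk_pow, g7_seven, QuotientGroup.mk_one]) fun h => ?_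
  have hne : g7 ≠ 1 := fun e => by
    have hz : sevenM = 1 := permHom_disjoint (show permHom sevenM ∈ signs by rw [show permHom sevenM = 1 from e]; exact one_mem _)
    have h7 := GolayClasses.orderOf_sevenZ
    rw [show GolayClasses.sevenZ = 1 from congrArg Subtype.val hz, orderOf_one] at h7
    norm_num at h7
  rcases Leech.center_eq ((QuotientGroup.eq_one_iff _).1 h) with e | e
  · exact hne e
  · have h7 := g7_seven
    have h2 : negOne * negOne = 1 := co0_ext fun v => by rw [mul_smul, negOne_smul, negOne_smul, neg_neg, one_smul]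
    rw [e, show negOne ^ 7 = (negOne * negOne) ^ 3 * negOne by rw [← pow_two, ← pow_mul, ← pow_succ], h2, one_pow, one_mul] at h7
    exact hne (e.trans h7)

theorem exists_adapted [Finite G] (M : Setting Q z) {s : G} (hsQ : s ∈ Q) (hs : IsConj z s)
    (hne : s ≠ z) {B : Subgroup G} (hB : B ≤ Subgroup.centralizer ({z, s} : Set G))
    (hBp : Nat.card B = 7 ^ (Nat.card (Subgroup.centralizer ({z, s} : Set G))).factorization 7) :
    ∃ M' : Setting Q z, M'.rel (R 1) s ∧ ∃ (b : G) (hbz : b ∈ Subgroup.centralizer ({z} : Set G)),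
      b * s = s * b ∧ Subgroup.zpowers b = B ∧ orderOf b = 7 ∧ M'.κ ⟨b, hbz⟩ = QuotientGroup.mk g7 := by
  obtain ⟨M1, h1⟩ := exists_normal_form M hsQ hs hne
  obtain ⟨h7, h49⟩ := natCard_cent_pair M1 h1
  have hf : (Nat.card (Subgroup.centralizer ({z, s} : Set G))).factorization 7 = 1 := by
    have h0 : Nat.card (Subgroup.centralizer ({z, s} : Set G)) ≠ 0 := Nat.card_pos.ne'
    have a := (Nat.Prime.pow_dvd_iff_le_factorization (by norm_num : Nat.Prime 7) h0 (k := 1)).1
      (by simpa using h7)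
    have b : ¬ 2 ≤ _ := fun h =>
      h49 ((Nat.Prime.pow_dvd_iff_le_factorization (by norm_num : Nat.Prime 7) h0).2 h)
    omega
  rw [hf, pow_one] at hBp
  haveI : Fact (Nat.Prime 7) := ⟨by norm_num⟩
  haveI : IsCyclic B := isCyclic_of_prime_card hBp
  obtain ⟨⟨b0, hb0⟩, hgen⟩ := IsCyclic.exists_generator (α := B)
  have hBz : Subgroup.zpowers b0 = B := by
    refine le_antisymm (Subgroup.zpowers_le.2 hb0) fun x hx => ?_
    obtain ⟨j, hj⟩ := Subgroup.mem_zpowers_iff.1 (hgen ⟨x, hx⟩)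
    exact Subgroup.mem_zpowers_iff.2 ⟨j, by simpa using congrArg Subtype.val hj⟩
  have hb7 : orderOf b0 = 7 := by rw [← Nat.card_zpowers, hBz, hBp]
  have hbB := centralizer_pair z s ▸ hB hb0
  let bC : Subgroup.centralizer ({z} : Set G) := ⟨b0, hbB.1⟩
  set S' := stdStab.map (QuotientGroup.mk' (Subgroup.center Co0))
  have hbS : M1.κ bC ∈ S' := by
    rw [show S' = (clsStab (R 1)).map (QuotientGroup.mk' (Subgroup.center Co0)) by rw [clsStab_R_one],
      ← M1.map_centralizer h1 (Or.inr (Or.inr ((norm_R_eq (by norm_num) (by norm_num)).2 (by norm_num))))]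
    exact ⟨bC, hbB.2, rfl⟩
  have hκ7 : orderOf (M1.κ bC) = 7 := by
    refine orderOf_eq_prime (by
      rw [← map_pow, show bC ^ 7 = 1 from Subtype.ext (by
        rw [SubmonoidClass.coe_pow, OneMemClass.coe_one, ← hb7, pow_orderOf_eq_one]), map_one]) fun h => ?_
    have hQ : b0 ∈ Q := (M1.κ_ker bC).1 h
    obtain ⟨k, hk⟩ := LargeExtraspecial.isPGroup_of_extraspecial M1.extra ⟨b0, hQ⟩
    have h2 : orderOf b0 ∣ 2 ^ k := orderOf_dvd_of_pow_eq_one (by simpa using congrArg Subtype.val hk)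
    rw [hb7] at h2
    exact absurd ((by norm_num : Nat.Prime 7).dvd_of_dvd_pow h2) (by norm_num)
  obtain ⟨m, hm, hmb⟩ := conj_mem_zpowers S' not_dvd_stdImage
    (show (QuotientGroup.mk g7 : Spor.Co1) ∈ S' from ⟨g7, permHom_mem _, rfl⟩) hbS mk_g7_order hκ7
  obtain ⟨m0, hm0, rfl⟩ := hm
  obtain ⟨j, hj⟩ := Subgroup.mem_zpowers_iff.1 hmb
  refine ⟨conjSetting M1 m0, M1.rel_of_cg h1 ?_, ((bC ^ j : Subgroup.centralizer ({z} : Set G)) : G), (bC ^ j).2, ?_, ?_, ?_, ?_⟩
  · have hm0' : m0 ∈ clsStab (R 1) := by rw [clsStab_R_one]; exact hm0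
    exact (mem_clsStab.1 hm0').symm
  · rw [show ((bC ^ j : Subgroup.centralizer ({z} : Set G)) : G) = b0 ^ j from SubgroupClass.coe_zpow bC j]
    exact Subgroup.mem_centralizer_singleton_iff.1
      (Subgroup.zpow_mem (Subgroup.centralizer ({s} : Set G)) hbB.2 j)
  all_goals
    have hcoe : ((bC ^ j : Subgroup.centralizer ({z} : Set G)) : G) = b0 ^ j := SubgroupClass.coe_zpow bC j
  · refine Subgroup.eq_of_le_of_card_ge (by rw [hcoe, ← hBz]; exact Subgroup.zpowers_le.2 (zpow_mem (Subgroup.mem_zpowers b0) j)) ?_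
    rw [hBp, Nat.card_zpowers]
    refine (orderOf_eq_prime ?_ ?_).ge
    · rw [hcoe, ← zpow_natCast, ← zpow_mul, mul_comm, zpow_mul, zpow_natCast, ← hb7, pow_orderOf_eq_one, one_zpow]
    · intro e
      have := hj.symm.trans (by rw [← map_zpow, show bC ^ j = 1 from Subtype.ext e, map_one])
      rw [conj_eq_one_iff] at this
      have h7' := mk_g7_order
      rw [show (QuotientGroup.mk g7 : Spor.Co1) = 1 from this, orderOf_one] at h7'
      norm_num at h7'
  · refine orderOf_eq_prime ?_ ?_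
    · rw [hcoe, ← zpow_natCast, ← zpow_mul, mul_comm, zpow_mul, zpow_natCast, ← hb7, pow_orderOf_eq_one, one_zpow]
    · intro e
      have := hj.symm.trans (by rw [← map_zpow, show bC ^ j = 1 from Subtype.ext e, map_one])
      rw [conj_eq_one_iff] at this
      have h7' := mk_g7_order
      rw [show (QuotientGroup.mk g7 : Spor.Co1) = 1 from this, orderOf_one] at h7'
      norm_num at h7'
  · show MulAut.conj _ (M1.κ (bC ^ j)) = _
    rw [map_zpow M1.κ, hj, MulAut.conj_apply, inv_inv, QuotientGroup.mk'_apply]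
    group

end Cfsg.Agent.MonsterSeven
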