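import Cfsg.Agent.Lib.MonsterSeven.Mixed
import Cfsg.Agent.Lib.TransvCent.AmalgamTop
import Cfsg.Agent.Lib.TransvCent.Recog

/-!
# The centraliser of the element of order seven modulo that element is the Held group

* `isoHe_of_type` : given the completion of the Held amalgam and the witness
-/

set_option autoImplicit false
open Cfsg

universe u

namespace Cfsg.Agent.MonsterSeven

open TransvCent

theorem isoHe_of_type {G : Type u} [Group G] [Finite G] (z : G) (Q : Subgroup (Subgroup.centralizer ({z} : Set G)))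
    [Q.Normal] (hM : Cfsg.IsOfMonsterType z Q) (s : G)
    (hsQ : ∃ hsc : s ∈ Subgroup.centralizer ({z} : Set G), (⟨s, hsc⟩ : Subgroup.centralizer ({z} : Set G)) ∈ Q)
    (hs : IsConj z s) (hs1 : s ≠ z) (B : Subgroup G) (hB : B ≤ Subgroup.centralizer ({z, s} : Set G))
    (hBp : Nat.card B = 7 ^ (Nat.card ↥(Subgroup.centralizer ({z, s} : Set G))).factorization 7)
    [hn : (B.subgroupOf (Subgroup.centralizer (B : Set G))).Normal]
    {t : Fin 4 → Cfsg.Spor.He} (h3 : Completes.{u} Cfsg.Spor.He t relsHe)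
    (hwit : Coding.HeWitness (evW t Amalgam.zWord)) :
    Cfsg.Spor.IsoHe (↥(Subgroup.centralizer (B : Set G)) ⧸ B.subgroupOf (Subgroup.centralizer (B : Set G))) := by
  obtain ⟨hsc', hsQ'⟩ := hsQ
  obtain ⟨-, M, -⟩ := Monster.exists_setting_of_type hM
  obtain ⟨M', hrel, b, hbz, hbs, hBb, hb7, hκ⟩ := exists_adapted M ⟨_, hsQ', rfl⟩ hs hs1 hB hBp
  subst hBb
  let X : Ctx G := ⟨z, _, M', s, hrel, b, hbz, hbs, hb7, hκ⟩
  have hCB : Subgroup.centralizer ((Subgroup.zpowers b : Subgroup G) : Set G) =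
      Subgroup.centralizer ({X.b} : Set G) := by
    rw [Subgroup.zpowers_eq_closure, Subgroup.centralizer_closure]
  set π := QuotientGroup.mk' ((Subgroup.zpowers b).subgroupOf
    (Subgroup.centralizer ((Subgroup.zpowers b : Subgroup G) : Set G)))
  have hπk : ∀ c, π c = 1 ↔ ((c : ↥(Subgroup.centralizer ((Subgroup.zpowers b : Subgroup G) : Set G))) : G) ∈
      Subgroup.zpowers X.b := fun c => by
    rw [QuotientGroup.mk'_apply, QuotientGroup.eq_one_iff, Subgroup.mem_subgroupOf]
  obtain ⟨zl, R, hR, hzl, hset, ⟨eq⟩, h29, hCR, hO, hlift⟩ :=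
    held_data X hs1 hs hCB π (QuotientGroup.mk'_surjective _) hπk
  obtain ⟨hord, -, hex, hcard, g, ⟨hgc, hgR⟩, hgne⟩ := hset
  obtain ⟨c⟩ := TransvCent.coding_of_count hord R hex (by simpa using hcard) hCR eq h29
  refine he_of_mixed (fun d SA SB => Amalgam.top_He SA SB h3 hwit) c
    (Subgroup.mem_centralizer_singleton_iff.1 hgc) hgne (isConj_iff.2 ⟨g, rfl⟩)
    (mixed_image X hCB π (QuotientGroup.mk'_surjective _) hπk zl hzl R hO hlift)

end Cfsg.Agent.MonsterSeven
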