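import Cfsg.Agent.Lib.MonsterSeven.Module
import Cfsg.Agent.Lib.Linear.SLn
import Cfsg.Agent.Lib.GLOrder.Basic

/-!
# The centraliser of an element of order seven modulo that element is of Held type

* `held_data` : the centraliser of the image of `z`, its radical, and lifts of the radical into `Q`
* `held` : the statement for a setting adapted to the element
-/

set_option autoImplicit false
open Cfsg
open scoped commutatorElement

namespace Cfsg.Agent.MonsterSeven

open Leech MonsterLattice Monster LargeExtraspecial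

/-- `SL(3, 2)`. -/
abbrev SL32 := Matrix.SpecialLinearGroup (Fin 3) (ZMod 2)

theorem natCard_SL32 : Nat.card SL32 = 168 := by
  rw [GLOrder.card_SL, Nat.card_zmod]; decide

theorem isSimpleGroup_SL32 : IsSimpleGroup SL32 := by
  haveI : IsSimpleGroup (Matrix.ProjectiveSpecialLinearGroup (Fin 3) (ZMod 2)) :=
    Linear.isSimpleGroup_psl (by simp)
  have hP : Nat.card (Matrix.ProjectiveSpecialLinearGroup (Fin 3) (ZMod 2)) = 168 := by
    rw [GLOrder.card_PSL, natCard_SL32, Nat.card_zmod, Fintype.card_fin]; decide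
  have e : SL32 ≃* Matrix.ProjectiveSpecialLinearGroup (Fin 3) (ZMod 2) :=
    MulEquiv.ofBijective (QuotientGroup.mk' _) ((Nat.bijective_iff_surjective_and_card _).2
      ⟨QuotientGroup.mk'_surjective _, by rw [natCard_SL32]; exact hP.symm⟩)
  exact e.isSimpleGroup

theorem two_group_bot {N : Subgroup SL32} [N.Normal] (hN : IsPGroup 2 N) : N = ⊥ := by
  haveI := isSimpleGroup_SL32
  rcases (inferInstance : N.Normal).eq_bot_or_eq_top with h | h
  · exact h
  · exfalso
    haveI : Fact (Nat.Prime 2) := ⟨Nat.prime_two⟩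
    obtain ⟨n, hn⟩ := IsPGroup.iff_card.mp hN
    rw [h, Subgroup.card_top, natCard_SL32] at hn
    have h3 : 3 ∣ 2 := Nat.prime_three.dvd_of_dvd_pow (hn ▸ (by norm_num : 3 ∣ 168))
    norm_num at h3

theorem held_data {G : Type*} [Group G] [Finite G] (X : Ctx G) (hsne : X.s ≠ X.z) (hsc : IsConj X.z X.s)
    {CB : Subgroup G} (hCB : CB = Subgroup.centralizer ({X.b} : Set G))
    {H : Type*} [Group H] [Finite H] (π : CB →* H) (hπ : Function.Surjective π)
    (hπk : ∀ c, π c = 1 ↔ (c : G) ∈ Subgroup.zpowers X.b) :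
    ∃ (zl : CB) (R : Subgroup (Subgroup.centralizer ({π zl} : Set H))) (_ : R.Normal),
      (zl : G) = X.z ∧ IsExtraspecialCentralizerSetting (π zl) R 3 ∧
      Nonempty ((Subgroup.centralizer ({π zl} : Set H)) ⧸ R ≃* SL32) ∧
      Set.ncard {x : Subgroup.centralizer ({π zl} : Set H) | x ∈ R ∧ IsConj (π zl) (x : H)} = 29 ∧
      Subgroup.centralizer (R : Set (Subgroup.centralizer ({π zl} : Set H))) ≤ R ∧
      (∀ N : Subgroup (Subgroup.centralizer ({π zl} : Set H)), N.Normal → IsPGroup 2 N → N ≤ R) ∧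
      ∀ d ∈ R, ∃ q : CB, (q : G) ∈ X.Q ∧ π q = (d : H) := by
  classical
  subst hCB
  haveI : Fact (Nat.Prime 2) := ⟨Nat.prime_two⟩
  have D := X.M.D
  set R0 := X.Q ⊓ Subgroup.centralizer ({X.b} : Set G) with hR0
  have hR0T : R0 ≤ X.T := fun x hx => ⟨X.M.mem_centralizer hx.1, hx.2⟩
  have hzb : X.z ∈ Subgroup.centralizer ({X.b} : Set G) :=
    Subgroup.mem_centralizer_singleton_iff.2 X.z_comm
  let zC : Subgroup.centralizer ({X.b} : Set G) := ⟨X.z, hzb⟩
  let zb : H := π zC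
  let Dg : Subgroup H := Subgroup.centralizer ({zb} : Set H)
  let ι : X.T →* Dg :=
    (π.comp (Subgroup.inclusion inf_le_right)).codRestrict Dg fun t =>
      Subgroup.mem_centralizer_singleton_iff.2 (by
        rw [MonoidHom.comp_apply, ← map_mul, ← map_mul]
        exact congrArg π (Subtype.ext (Subgroup.mem_centralizer_singleton_iff.1 t.2.1)))
  have hιcoe : ∀ t : X.T, (ι t : H) = π ⟨t, t.2.2⟩ := fun t => rfl
  have hιk : ∀ t : X.T, ι t = 1 ↔ (t : G) ∈ Subgroup.zpowers X.b := fun t => by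
    rw [← hπk ⟨t, t.2.2⟩, ← hιcoe t]
    exact ⟨fun h => by rw [h]; rfl, fun h => Subtype.ext h⟩
  -- an involution congruent to a conjugate of z is that conjugate
  have hinv : ∀ (c : G) (r : G), c * X.b = X.b * c → r ∈ R0 → r * r = 1 →
      c * X.z * c⁻¹ * r⁻¹ ∈ Subgroup.zpowers X.b → c * X.z * c⁻¹ = r := by
    intro c r hc hr hrr hmem
    have hu : Commute r X.b := Subgroup.mem_centralizer_singleton_iff.1 hr.2
    obtain ⟨i, hi⟩ := Subgroup.mem_zpowers_iff.1 hmem
    have hur : Commute (X.b ^ i) r := (hu.zpow_right i).symm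
    have e : c * X.z * c⁻¹ = X.b ^ i * r := by rw [hi]; group
    have h2 : (X.b ^ i * r) * (X.b ^ i * r) = 1 := by
      rw [← e, show c * X.z * c⁻¹ * (c * X.z * c⁻¹) = c * (X.z * X.z) * c⁻¹ by group, D.z_sq]
      group
    have h3 : X.b ^ i * X.b ^ i = 1 := by
      have h4 : (X.b ^ i * r) * (X.b ^ i * r) = (X.b ^ i * X.b ^ i) * (r * r) := hur.symm.mul_mul_mul_comm _ _
      rw [h2, hrr, mul_one] at h4
      exact h4.symm
    rw [e, X.eq_one_of_sq (zpow_mem (Subgroup.mem_zpowers _) i) h3, one_mul]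
  have hzR0 : X.z ∈ R0 := ⟨D.z_mem, hzb⟩
  have hιs : Function.Surjective ι := by
    rintro ⟨y, hy⟩
    obtain ⟨c, rfl⟩ := hπ y
    have hcb : (c : G) * X.b = X.b * c := Subgroup.mem_centralizer_singleton_iff.1 c.2
    have h1 : π (c * zC * c⁻¹ * zC⁻¹) = 1 := by
      rw [map_mul, map_mul, map_mul, map_inv, map_inv, Subgroup.mem_centralizer_singleton_iff.1 hy]
      simp [zb]
    have h2 := hinv c X.z hcb hzR0 D.z_sq ((hπk _).1 h1)
    exact ⟨⟨c, Subgroup.mem_centralizer_singleton_iff.2 (mul_inv_eq_iff_eq_mul.1 h2), c.2⟩,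
      Subtype.ext rfl⟩
  have hbT : X.b ∈ X.T := ⟨X.hbz, Subgroup.mem_centralizer_singleton_iff.2 rfl⟩
  let bT : X.T := ⟨X.b, hbT⟩
  have hkerθ : ι.ker ≤ X.θ.ker := fun t ht => by
    obtain ⟨i, hi⟩ := Subgroup.mem_zpowers_iff.1 ((hιk t).1 ht)
    have : t = bT ^ i := Subtype.ext (by rw [SubgroupClass.coe_zpow]; exact hi.symm)
    rw [MonoidHom.mem_ker, this, map_zpow, X.θ_b (t := bT) rfl, one_zpow]
  let ψ : Dg →* SL32 := ι.liftOfSurjective hιs ⟨X.θ, hkerθ⟩
  have hψι : ∀ t, ψ (ι t) = X.θ t := fun t =>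
    MonoidHom.liftOfRightInverse_comp_apply ι _ (Function.rightInverse_surjInv hιs) ⟨X.θ, hkerθ⟩ t
  have hψs : Function.Surjective ψ := fun A => by
    obtain ⟨t, rfl⟩ := X.θ_surjective A
    exact ⟨ι t, hψι t⟩
  let R : Subgroup Dg := ψ.ker
  haveI hRn : R.Normal := inferInstanceAs ψ.ker.Normal
  let lf : R0 →* Dg := ι.comp (Subgroup.inclusion hR0T)
  have hlfi : Function.Injective lf := by
    refine (injective_iff_map_eq_one lf).2 fun q hq => Subtype.ext ?_
    exact X.not_mem_Q ((hιk _).1 hq) q.2.1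
  have hlf : lf.range = R := by
    ext d
    constructor
    · rintro ⟨q, rfl⟩
      exact (hψι _).trans (X.θ_of_mem_Q q.2.1)
    · intro hd
      obtain ⟨t, rfl⟩ := hιs d
      obtain ⟨q, hq, j, hj⟩ := X.θ_ker ((hψι t).symm.trans hd)
      refine ⟨⟨q, hq⟩, ?_⟩
      have h1 : t = ⟨q, hR0T hq⟩ * bT ^ j := Subtype.ext (by rw [Subgroup.coe_mul, SubmonoidClass.coe_pow]; exact hj)
      rw [h1, map_mul, map_pow, (hιk bT).2 (Subgroup.mem_zpowers _), one_pow, mul_one]
      rfl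
  have hRmem : ∀ d, d ∈ R ↔ ∃ q : R0, lf q = d := fun d => by rw [← hlf]; rfl
  have hRcard : Nat.card R = 2 ^ 7 := by
    rw [← hlf, ← Nat.card_congr (MonoidHom.ofInjective hlfi).toEquiv, hR0, X.natCard_R0]; norm_num
  have hRp : IsPGroup 2 R := IsPGroup.of_card hRcard
  let zq : R0 := ⟨X.z, hzR0⟩
  let zd : Dg := lf zq
  have hzd : (zd : H) = zb := rfl
  have hzR : zd ∈ R := (hRmem _).2 ⟨zq, rfl⟩
  have hzd1 : zd ≠ 1 := fun h => D.z_ne (congrArg Subtype.val (hlfi (h.trans (map_one lf).symm)))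
  have hzcent : ∀ y : Dg, y * zd = zd * y := fun y =>
    Subtype.ext (Subgroup.mem_centralizer_singleton_iff.1 y.2)
  obtain ⟨hRex, -⟩ := isExtraspecial_of_gen hRp hzR hzd1 (fun q _ => hzcent q)
    (fun d hd hc => by
      obtain ⟨x, rfl⟩ := (hRmem d).1 hd
      rcases X.center_R0 x.2 (fun y hy => congrArg Subtype.val
        (hlfi (a₁ := (⟨y, hy⟩ : R0) * x) (a₂ := x * ⟨y, hy⟩)
          (by rw [map_mul, map_mul]; exact hc _ ((hRmem _).2 ⟨_, rfl⟩)))) with e | e
      · exact Or.inl (by rw [show x = 1 from Subtype.ext e, map_one])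
      · exact Or.inr (congrArg lf (Subtype.ext e : x = zq)))
    (fun a ha b hb => by
      obtain ⟨x, rfl⟩ := (hRmem a).1 ha
      obtain ⟨y, rfl⟩ := (hRmem b).1 hb
      rw [← map_commutatorElement]
      rcases D.comm _ x.2.1 _ y.2.1 with h | h
      · exact Or.inl (by rw [show ⁅x, y⁆ = 1 from Subtype.ext h, map_one])
      · exact Or.inr (congrArg lf (Subtype.ext h : ⁅x, y⁆ = zq)))
    (fun a ha => by
      obtain ⟨x, rfl⟩ := (hRmem a).1 ha
      rw [← map_mul]
      rcases D.sq x.2.1 with h | h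
      · exact Or.inl (by rw [show x * x = 1 from Subtype.ext h, map_one])
      · exact Or.inr (congrArg lf (Subtype.ext h : x * x = zq)))
    (by
      obtain ⟨m, hm, hd⟩ := Ctx.commDot 1 (by norm_num) one_ne_zero
      have hmem : ∀ n < 64, X.lift n ∈ R0 := fun n hn => X.mem_R0_iff.2 ⟨n, hn, X.rel_lift n⟩
      refine ⟨_, (hRmem _).2 ⟨⟨_, hmem 1 (by norm_num)⟩, rfl⟩, _, (hRmem _).2 ⟨⟨_, hmem m hm⟩, rfl⟩, ?_⟩
      rw [← map_commutatorElement]
      intro h
      refine hd ?_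
      have hc : ⁅X.lift 1, X.lift m⁆ = 1 := congrArg Subtype.val (hlfi (h.trans (map_one lf).symm))
      have := (X.M.comm_iff (X.rel_lift 1) (X.rel_lift m)).1 (commutatorElement_eq_one_iff_mul_comm.mp hc)
      rw [coe_R (by norm_num), coe_R hm] at this
      have e := vOf_dotProduct (repL 1) (x := repL m) (length_row _)
      rw [← e]
      exact this)
  have hCR : Subgroup.centralizer (R : Set Dg) ≤ R := by
    intro d hd
    obtain ⟨t, rfl⟩ := hιs d
    show ψ (ι t) = 1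
    rw [hψι]
    refine X.θ_of_centralizes fun q hq => ?_
    have h1 : ι ⁅t, (⟨q, hR0T hq⟩ : X.T)⁆ = 1 := by
      rw [map_commutatorElement, commutatorElement_eq_one_iff_mul_comm]
      exact (Subgroup.mem_centralizer_iff.1 hd _ ((hRmem _).2 ⟨⟨q, hq⟩, rfl⟩)).symm
    refine commutatorElement_eq_one_iff_mul_comm.mp (X.not_mem_Q ((hιk _).1 h1) ?_)
    show (t : G) * q * (t : G)⁻¹ * q⁻¹ ∈ X.Q
    exact mul_mem (D.norm _ (Subgroup.mem_centralizer_singleton_iff.1 t.2.1) q hq.1) (inv_mem hq.1)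
  have hO : ∀ N : Subgroup Dg, N.Normal → IsPGroup 2 N → N ≤ R := by
    intro N hN hNp
    haveI := hN.map ψ hψs
    have := two_group_bot (hNp.map ψ)
    exact (Subgroup.map_eq_bot_iff N).1 this
  have hfus : ∀ x ∈ R0, IsConj X.z x → x ≠ X.z →
      ∃ (c : Subgroup.centralizer ({X.b} : Set G)), (c : G) * X.z * (c : G)⁻¹ = x := by
    intro x hx hc hne
    obtain ⟨n, hn, hnx⟩ := X.fusion hx hc hne
    exact ⟨⟨n, Subgroup.mem_centralizer_singleton_iff.2 hn⟩, hnx⟩
  have hsR0 : X.s ∈ R0 := ⟨X.M.rel_mem X.hs, Subgroup.mem_centralizer_singleton_iff.2 X.hbs.symm⟩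
  obtain ⟨cs, hcs⟩ := hfus X.s hsR0 hsc hsne
  have hπR : ∀ (c : Subgroup.centralizer ({X.b} : Set G)) (r : R0), (c : G) * X.z * (c : G)⁻¹ = r →
      π c * zb * (π c)⁻¹ = (lf r : H) := fun c r h => by
    rw [show (lf r : H) = π ⟨r, r.2.2⟩ from rfl, ← map_inv, ← map_mul, ← map_mul]
    exact congrArg π (Subtype.ext h)
  have hset : {d : Dg | d ∈ R ∧ IsConj zb (d : H)} =
      lf '' {r : R0 | (r : G) = X.z ∨ ∃ n < 64, X.M.rel (MonsterSeven.R n) r ∧ n ≠ 0 ∧ (n < 8 ∨ n % 8 = 0)} := by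
    ext d
    constructor
    · rintro ⟨hd, hc⟩
      obtain ⟨r, rfl⟩ := (hRmem d).1 hd
      refine ⟨r, ?_, rfl⟩
      obtain ⟨h', hh'⟩ := isConj_iff.1 hc
      obtain ⟨c, rfl⟩ := hπ h'
      have h1 : π (c * zC * c⁻¹ * (⟨(r : G), r.2.2⟩ : Subgroup.centralizer ({X.b} : Set G))⁻¹) = 1 := by
        rw [map_mul, map_mul, map_mul, map_inv, map_inv, hh']
        exact mul_inv_cancel _
      have hrr : (r : G) * r = 1 := by
        rcases D.sq r.2.1 with e | e
        · exact e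
        · exfalso
          have hh2 : (lf r : H) * (lf r : H) = 1 := by
            rw [← hh', show π c * zb * (π c)⁻¹ * (π c * zb * (π c)⁻¹) = π c * (zb * zb) * (π c)⁻¹ by group,
              show zb * zb = 1 by rw [← map_mul, show zC * zC = 1 from Subtype.ext D.z_sq, map_one]]
            group
          refine hzd1 ?_
          rw [show zd = lf (r * r) from congrArg lf (Subtype.ext e.symm), map_mul]
          exact Subtype.ext hh2
      have h2 := hinv c r (Subgroup.mem_centralizer_singleton_iff.1 c.2) r.2 hrr ((hπk _).1 h1)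
      by_cases hz : (r : G) = X.z
      · exact Or.inl hz
      right
      obtain ⟨v, hv, hvn⟩ := X.M.rep64 r.2.1 (isConj_iff.2 ⟨c, h2⟩) hz
      obtain ⟨n, hn, hn'⟩ := X.mem_R0_iff.1 r.2
      have h0 : n ≠ 0 := by
        rintro rfl
        rw [R_zero] at hn'
        rcases X.M.rel_zero hn' with e | e
        · have h3 : (c : G) * X.z * (c : G)⁻¹ = 1 := h2.trans e
          rw [conj_eq_one_iff] at h3
          exact D.z_ne h3
        · exact hz e
      refine ⟨n, hn, hn', h0, (norm_R_eq hn h0).1 ?_⟩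
      have hle : sqNorm (MonsterSeven.R n : GolayPt → ℤ) ≤ 64 := by rcases norm_R hn h0 with e | e | e <;> omega
      rcases congr_short v.2 ((X.M.rel_cg hv hn').2 (Or.inl rfl)) hvn.le hle with e | e | ⟨-, e, -⟩
      · rw [← e, hvn]
      · rw [e, sqNorm_neg] at hvn; exact hvn
      · exact e
    · rintro ⟨r, hr, rfl⟩
      refine ⟨(hRmem _).2 ⟨r, rfl⟩, ?_⟩
      rcases hr with e | ⟨n, hn, hn', h0, hnn⟩
      · rw [show r = zq from Subtype.ext e]
        exact IsConj.refl _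
      · obtain ⟨hc, hne⟩ := X.M.conj64 hn' ((norm_R_eq hn h0).2 hnn)
        obtain ⟨c, hc'⟩ := hfus r r.2 hc hne
        exact isConj_iff.2 ⟨π c, hπR c r hc'⟩
  have h29 : {d : Dg | d ∈ R ∧ IsConj zb (d : H)}.ncard = 29 := by
    rw [hset, Set.ncard_image_of_injective _ hlfi]
    let idx : Fin 14 → ℕ := fun i => if i.1 < 7 then i.1 + 1 else 8 * (i.1 - 6)
    have hidx : ∀ i, idx i < 64 ∧ idx i ≠ 0 ∧ (idx i < 8 ∨ idx i % 8 = 0) := by decide
    have hidxs : ∀ n < 64, n ≠ 0 → (n < 8 ∨ n % 8 = 0) → ∃ i, idx i = n := by decide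
    have hidxi : Function.Injective idx := by decide
    have hrel : ∀ i (e : Bool), X.M.rel (MonsterSeven.R (idx i)) (if e then X.lift (idx i) * X.z else X.lift (idx i)) :=
      fun i e => by cases e <;> simp [X.rel_lift, X.M.rel_z (X.rel_lift _)]
    let f : Option (Fin 14 × Bool) → R0 := fun o => match o with
      | none => zq
      | some (i, e) => ⟨_, X.mem_R0_iff.2 ⟨idx i, (hidx i).1, hrel i e⟩⟩
    have hnz : ∀ (i : Fin 14) (e : Bool), (if e then X.lift (idx i) * X.z else X.lift (idx i)) ≠ X.z := fun i e =>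
      (X.M.ne_of_rel (hrel i e) (norm_R (hidx i).1 (hidx i).2.1)).2
    have hf : Function.Injective f := by
      intro a b h
      have h' := congrArg Subtype.val h
      rcases a with _ | ⟨i, e⟩ <;> rcases b with _ | ⟨i', e'⟩
      · rfl
      · exact absurd h'.symm (hnz i' e')
      · exact absurd h' (hnz i e)
      · have hi : i = i' := hidxi <| idx_unique (hidx i).1 (hidx i').1 (cg_refl _)
          ((X.M.rel_cg (hrel i e) (hrel i' e')).2 (Or.inl h'.symm))
        subst hi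
        cases e <;> cases e' <;> simp [f, D.z_ne] at h' ⊢
    have hrange : Set.range f =
        {r : R0 | (r : G) = X.z ∨ ∃ n < 64, X.M.rel (MonsterSeven.R n) r ∧ n ≠ 0 ∧ (n < 8 ∨ n % 8 = 0)} := by
      ext r
      constructor
      · rintro ⟨o, rfl⟩
        rcases o with _ | ⟨i, e⟩
        · exact Or.inl rfl
        · exact Or.inr ⟨idx i, (hidx i).1, hrel i e, (hidx i).2⟩
      · rintro (e | ⟨n, hn, hn', h0, hnn⟩)
        · exact ⟨none, Subtype.ext e.symm⟩
        · obtain ⟨i, rfl⟩ := hidxs n hn h0 hnn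
          rcases (X.M.rel_cg (X.rel_lift _) hn').1 (cg_refl _) with e | e
          · exact ⟨some (i, false), Subtype.ext e.symm⟩
          · exact ⟨some (i, true), Subtype.ext e.symm⟩
    rw [← hrange, ← Nat.card_coe_set_eq, ← Nat.card_congr (Equiv.ofInjective f hf)]
    simp
  refine ⟨zC, R, hRn, rfl, ⟨?_, genFitting_eq_of hRp hCR hO, hRex, hRcard, π cs, ?_, ?_⟩,
    ⟨QuotientGroup.quotientKerEquivOfSurjective ψ hψs⟩, h29, hCR, hO, fun d hd => by
      obtain ⟨q, rfl⟩ := (hRmem d).1 hd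
      exact ⟨⟨q, q.2.2⟩, q.2.1, rfl⟩⟩
  · refine orderOf_eq_prime ?_ fun h => hzd1 (Subtype.ext h)
    rw [pow_two, ← map_mul, show zC * zC = 1 from Subtype.ext D.z_sq, map_one]
  · have hc := hπR cs ⟨X.s, hsR0⟩ hcs
    refine ⟨hc ▸ (lf _).2, ?_⟩
    exact Set.mem_of_eq_of_mem (Subtype.ext hc) ((hRmem _).2 ⟨_, rfl⟩)
  · rw [hπR cs ⟨X.s, hsR0⟩ hcs]
    intro h
    have h' : lf ⟨X.s, hsR0⟩ = zd := Subtype.ext h
    exact hsne (congrArg Subtype.val (hlfi h'))

theorem held {G : Type*} [Group G] [Finite G] (X : Ctx G) (hsne : X.s ≠ X.z) (hsc : IsConj X.z X.s)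
    {CB : Subgroup G} (hCB : CB = Subgroup.centralizer ({X.b} : Set G))
    {H : Type*} [Group H] [Finite H] (π : CB →* H) (hπ : Function.Surjective π)
    (hπk : ∀ c, π c = 1 ↔ (c : G) ∈ Subgroup.zpowers X.b) : Cfsg.IsOfHeldType H := by
  obtain ⟨zl, R, hR, -, hset, hiso, h29, -⟩ := held_data X hsne hsc hCB π hπ hπk
  exact ⟨π zl, R, hR, hset, hiso, h29⟩

end Cfsg.Agent.MonsterSeven
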