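import Cfsg.Agent.Lib.MonsterSeven.Frame
import Cfsg.Agent.Lib.MonsterSeven.InvData

/-!
# An involution inverting the element of order seven, diagonal on a frame

* `invEl`, `invEl_twist` : the involution
* `exists_involution_lift` : it lifts to an involution of `C(z)`
-/

set_option autoImplicit false
set_option maxRecDepth 100000
open Cfsg
open scoped Matrix commutatorElement

namespace Cfsg.Agent.MonsterSeven

open Leech MonsterLattice GolayClasses

/-- The rows of the frame matrix. -/
def frameL : List (List ℤ) := frameRows.map row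

/-- The columns of the frame matrix. -/
def frameT : List (List ℤ) := frameCols.map row

/-- The rows of the involution. -/
def invL : List (List ℤ) := invRows.map row

/-- The check of the frame matrix. -/
def frameChk : Bool :=
  decide (frameL.length = 24) && decide (frameT.length = 24) && frameL.all smallL &&
    frameT.all smallL && (framePackL == packCols frameL) && (framePackT == packCols frameT) &&
    (frameT.map pack == framePackL) && orthOK frameL framePackL && orthOK frameT framePackT &&
    imgsF framePackL genLists (frameImgL.map row) && imgsF framePackT genLists (frameImgT.map row)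

theorem frameChk_eq : frameChk = true := by decide +kernel

theorem invWord_code : Golay.isCode invWord = true ∧ invWord.testBit 23 = true ∧
    invWord.testBit 0 = false := by
  decide +kernel

/-- The involution is the conjugate of the sign change and inverts the element of order seven. -/
def invChk : Bool :=
  ((List.range 24).all fun a => (List.range 24).all fun b =>
    dotL (frameL.getD a []) ((List.range 24).map fun l =>
      if invWord.testBit l then -(frameL.getD b []).getD l 0 else (frameL.getD b []).getD l 0) ==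
      8 * (invL.getD a []).getD b 0) &&
    (List.range 24).all fun a => (List.range 24).all fun b =>
      (invL.getD (zIter 6 a) []).getD (Golay.fn sevenGen b) 0 == (invL.getD a []).getD b 0

theorem invChk_eq : invChk = true := by decide +kernel

theorem frameOK : MatOK (toMat frameL) := by
  refine (matOK_of_lists (T := frameT) (P := framePackL) (Q := framePackT)
    (YL := frameImgL.map row) (YT := frameImgT.map row) ?_).1
  have h := frameChk_eq
  simp only [frameChk, imgsF_eq] at h
  exact h

/-- The element taking the standard cross to the frame. -/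
noncomputable def frameEl : Co0 := matEl (toMat frameL) frameOK

/-- The sign change of the dodecad. -/
def invSign : Co0 := signEl (Golay.pts invWord) (Golay.mem_supports_of_isCode invWord_code.1)

/-- The inverting involution. -/
noncomputable def invEl : Co0 := frameEl * invSign * frameEl⁻¹

theorem invEl_mulVec (v : leechLattice) (i : GolayPt) :
    (toMat invL *ᵥ (v : GolayPt → ℤ)) i = 8 * ((invEl • v : leechLattice) : GolayPt → ℤ) i := by
  set w := frameEl⁻¹ • v with hw
  have h1 : toMat frameL *ᵥ (w : GolayPt → ℤ) = (8 : ℤ) • (v : GolayPt → ℤ) := by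
    have h := matImage_spec frameOK.2.2.1 w
    rw [show matImage frameOK.2.2.1 w = frameEl • w from rfl, hw, smul_inv_smul] at h
    exact h
  have h2 : (toMat frameL)ᵀ *ᵥ (v : GolayPt → ℤ) = (8 : ℤ) • (w : GolayPt → ℤ) := by
    refine smul_right_injective (GolayPt → ℤ) (by norm_num : (8 : ℤ) ≠ 0) ?_
    show (8 : ℤ) • _ = (8 : ℤ) • _
    rw [← Matrix.mulVec_smul, ← h1, Matrix.mulVec_mulVec, frameOK.1, Matrix.smul_mulVec,
      Matrix.one_mulVec, smul_sixtyfour]
  have h3 : toMat frameL *ᵥ ((invSign • w : leechLattice) : GolayPt → ℤ) =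
      (8 : ℤ) • ((invEl • v : leechLattice) : GolayPt → ℤ) := by
    have h := matImage_spec frameOK.2.2.1 (invSign • w)
    rw [show matImage frameOK.2.2.1 (invSign • w) = frameEl • invSign • w from rfl, hw, ← mul_smul,
      ← mul_smul] at h
    rw [← mul_assoc] at h
    exact h
  have hE := invChk_eq
  simp only [invChk, Bool.and_eq_true, List.all_eq_true, List.mem_range, beq_iff_eq] at hE
  let s : GolayPt → ℤ := fun p => if invWord.testBit (Golay.idx p) then -1 else 1
  have hentry : ∀ a b : GolayPt, 8 * toMat invL a b =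
      ∑ l, toMat frameL a l * s l * toMat frameL b l := fun a b => by
    have e := hE.1 _ (Golay.idx_lt a) _ (Golay.idx_lt b)
    rw [← vOf_dotProduct _ (by simp), vOf_range] at e
    refine e.symm.trans (Finset.sum_congr rfl fun l _ => ?_)
    show (frameL.getD (Golay.idx a) []).getD (Golay.idx l) 0 * _ = (frameL.getD (Golay.idx a) []).getD (Golay.idx l) 0 * _ * (frameL.getD (Golay.idx b) []).getD (Golay.idx l) 0
    simp only [s]
    split_ifs <;> ring
  have key : (8 : ℤ) * (toMat invL *ᵥ (v : GolayPt → ℤ)) i = 8 * (8 * ((invEl • v : leechLattice) : GolayPt → ℤ) i) := by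
    have hl : ∀ l, s l * ((toMat frameL)ᵀ *ᵥ (v : GolayPt → ℤ)) l =
        8 * ((invSign • w : leechLattice) : GolayPt → ℤ) l := fun l => by
      rw [h2, invSign, vec_signEl]
      simp only [Pi.smul_apply, smul_eq_mul, Golay.mem_pts, s]
      split_ifs <;> ring
    calc 8 * (toMat invL *ᵥ (v : GolayPt → ℤ)) i
        = ∑ b, (∑ l, toMat frameL i l * s l * toMat frameL b l) * (v : GolayPt → ℤ) b := by
          simp only [Matrix.mulVec, dotProduct, Finset.mul_sum, ← mul_assoc, hentry]
      _ = ∑ l, toMat frameL i l * (s l * ((toMat frameL)ᵀ *ᵥ (v : GolayPt → ℤ)) l) := by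
          simp only [Matrix.mulVec, dotProduct, Matrix.transpose_apply, Finset.mul_sum, Finset.sum_mul]
          rw [Finset.sum_comm]
          exact Finset.sum_congr rfl fun l _ => Finset.sum_congr rfl fun b _ => by ring
      _ = 8 * (toMat frameL *ᵥ ((invSign • w : leechLattice) : GolayPt → ℤ)) i := by
          simp only [hl]
          simp only [Matrix.mulVec, dotProduct, Finset.mul_sum]
          exact Finset.sum_congr rfl fun l _ => by ring
      _ = _ := by rw [h3, Pi.smul_apply, smul_eq_mul]
  omega

theorem invEl_twist : invEl * g7 = g7 ^ 6 * invEl := by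
  have hE := invChk_eq
  simp only [invChk, Bool.and_eq_true, List.all_eq_true, List.mem_range, beq_iff_eq] at hE
  have hperm : ∀ p q : GolayPt,
      toMat invL ((sevenM ^ 6 : M24).1 p) (sevenM.1 q) = toMat invL p q := fun p q => by
    show (invL.getD (Golay.idx ((sevenM ^ 6 : M24).1 p)) []).getD (Golay.idx (sevenM.1 q)) 0 =
      (invL.getD (Golay.idx p) []).getD (Golay.idx q) 0
    rw [idx_pow_sevenM, idx_sevenZ]
    exact hE.2 _ (Golay.idx_lt p) _ (Golay.idx_lt q)
  refine co0_ext fun v => Subtype.ext (funext fun p => ?_)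
  have h8 : (8 : ℤ) * ((invEl • g7 • v : leechLattice) : GolayPt → ℤ) p =
      8 * ((g7 ^ 6 • invEl • v : leechLattice) : GolayPt → ℤ) p := by
    rw [← invEl_mulVec, show g7 ^ 6 = permHom (sevenM ^ 6) from (map_pow permHom _ _).symm, vec_perm,
      ← invEl_mulVec]
    simp only [Matrix.mulVec, dotProduct, g7, vec_perm]
    refine (Fintype.sum_equiv sevenM.1 _ _ fun q => ?_).symm
    rw [← hperm, Equiv.apply_symm_apply, Equiv.symm_apply_apply]
  rw [mul_smul, mul_smul]
  omega

section

open Monster LargeExtraspecial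

variable {G : Type*} [Group G] {Q : Subgroup G} {z : G}

/-- A sign change which separates the points of `baseU` lifts to an involution of `C(z)`. -/
theorem exists_sign_lift [Finite G] (M : Setting Q z) (c : Finset GolayPt)
    (hc : c ∈ supports (golayCode : Set (GolayPt → ZMod 2))) (hn : none ∈ c)
    (h0 : (some 0 : GolayPt) ∉ c) :
    ∃ a : Subgroup.centralizer ({z} : Set G),
      (a : G) * a = 1 ∧ M.κ a = QuotientGroup.mk (signEl c hc) := by
  haveI : Fact (Nat.Prime 2) := ⟨Nat.prime_two⟩
  obtain ⟨s0, hs0⟩ := M.exists_rel (eightVec none)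
  obtain ⟨hc0, hne0⟩ := M.conj64 hs0 (sqNorm_eightVec none)
  obtain ⟨g0, rfl⟩ := isConj_iff.1 hc0
  have hsQ := M.rel_mem hs0
  have DP := M.D.conjugate g0
  set P := conjS g0 Q
  obtain ⟨hle, hnorm⟩ := M.E0_le g0 hs0 (Or.inr (Or.inr (sqNorm_eightVec none)))
  obtain ⟨hI, hE0, -⟩ := M.card_inter g0 hsQ hne0
  rw [clsStab_eightVec] at hle hnorm
  have hES : M.Epre g0 = signs := Subgroup.eq_of_le_of_card_ge
    (two_group_le_signs (M.isPGroup_Epre g0) hle hnorm)
    (by rw [natCard_signs, M.natCard_Epre, hE0]; norm_num)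
  have lifts : ∀ c hc, ∃ r : Subgroup.centralizer ({z} : Set G), (r : G) ∈ P ∧
      M.κ r = QuotientGroup.mk (signEl c hc) := fun c hc => by
    obtain ⟨r, hr, hre⟩ :=
      Subgroup.mem_comap.1 (hES ▸ M.signEl_mem_signs c hc : signEl c hc ∈ M.Epre g0)
    exact ⟨r, hr, hre⟩
  obtain ⟨x, hx⟩ := M.exists_rel baseU
  have hxQ := M.rel_mem hx
  have hxI : ∀ y ∈ Q ⊓ P, x * y = y * x := by
    rintro y ⟨hyQ, hyP⟩
    obtain ⟨w, hw⟩ := M.rel_surj y hyQ
    refine (M.comm_iff hx hw).2 (perp_of_signs_fix fun d hd => ?_)
    obtain ⟨r, hr, hre⟩ := lifts d hd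
    have h1 := M.rel_equiv (signEl d hd) r hre.symm hw
    rcases DP.comm r hr y hyP with h | h
    · left
      rw [commutatorElement_eq_one_iff_mul_comm.mp h, mul_inv_cancel_right] at h1
      exact (M.rel_cg h1 hw).2 (Or.inl rfl)
    · right
      rw [show (r : G) * y * (r : G)⁻¹ = g0 * z * g0⁻¹ * y by rw [← h, commutatorElement_def]; group] at h1
      exact (M.rel_cg h1 (M.rel_add hs0 hw)).2 (Or.inl rfl)
  have hxP : x ∈ P := by
    have hab : ∀ a ∈ (Q ⊓ P).subgroupOf Q, ∀ b ∈ (Q ⊓ P).subgroupOf Q, a * b = b * a := by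
      intro a ha b hb
      refine Subtype.ext (commutatorElement_eq_one_iff_mul_comm.mp ?_)
      rcases M.D.comm _ ha.1 _ hb.1 with h | h
      · exact h
      rcases DP.comm _ ha.2 _ hb.2 with h' | h'
      · exact h'
      · exact absurd (h'.symm.trans h) hne0
    obtain ⟨A, hA, hAc⟩ := Extraspecial.exists_maximal_abelian ((Q ⊓ P).subgroupOf Q) hab
    have hcard := Extraspecial.card_mul_of_maximal (p := 2) M.extra hAc
    rw [M.card_Q] at hcard
    have hA' : (Q ⊓ P).subgroupOf Q = A := Subgroup.eq_of_le_of_card_ge hA (by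
      rw [Nat.card_congr (Subgroup.subgroupOfEquivOfLe (inf_le_left : Q ⊓ P ≤ Q)).toEquiv, hI]
      by_contra hlt
      have := Nat.mul_self_lt_mul_self (not_le.1 hlt)
      omega)
    have : (⟨x, hxQ⟩ : Q) ∈ (Q ⊓ P).subgroupOf Q := by
      rw [hA', ← hAc, ← hA']
      exact Subgroup.mem_centralizer_iff.2 fun y hy => Subtype.ext (hxI _ hy).symm
    exact this.2
  have hxx : x * x = 1 := by
    by_contra h
    have h' := M.f_baseU
    rw [M.f_eq hx, if_neg h] at h'
    exact one_ne_zero h'
  obtain ⟨r, hrP, hre⟩ := lifts c hc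
  rcases DP.sq hrP with h | h
  · exact ⟨r, h, hre⟩
  have hmove : ⁅(r : G), x⁆ ≠ 1 := by
    intro e
    rw [commutatorElement_eq_one_iff_mul_comm] at e
    have h1 := M.rel_equiv (signEl c hc) r hre.symm hx
    rw [e, mul_inv_cancel_right] at h1
    obtain ⟨u, hu⟩ := cg_iff.1 ((M.rel_cg h1 hx).2 (Or.inl rfl))
    have hu2 : ∀ i, (signEl c hc • baseU : leechLattice).1 i = (baseU : GolayPt → ℤ) i + 2 * (u : GolayPt → ℤ) i :=
      fun i => by
        rw [hu, AddSubgroup.coe_add, AddSubgroup.coe_add]; simp only [Pi.add_apply]; ring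
    obtain ⟨m, a, h1', h2', h3'⟩ := Leech.mem_iff.1 u.2
    have hv : ∀ i, (u : GolayPt → ℤ) i = if i = none then -4 else 0 := fun i => by
      have := hu2 i
      rw [vec_signEl] at this
      simp only [baseU_apply] at this
      by_cases hi : i = none
      · subst hi; simp [hn] at this ⊢; omega
      · by_cases hi0 : i = some 0
        · subst hi0; simp [h0] at this ⊢; omega
        · simp [hi, hi0] at this ⊢; omega
    have hsum : ∑ i, (u : GolayPt → ℤ) i = -4 := by simp [hv]
    have h8 := Finset.sum_congr rfl (fun i (_ : i ∈ Finset.univ) => h1' i)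
    rw [hsum, Finset.sum_add_distrib, Finset.sum_const, ← Finset.mul_sum, Finset.card_univ,
      show Fintype.card GolayPt = 24 from rfl, nsmul_eq_mul] at h8
    simp only [Int.ModEq] at h2'
    push_cast at h8
    have hm := (hv none).symm.trans (h1' none)
    rw [if_pos rfl] at hm
    omega
  have hcomm := (DP.comm r hrP x hxP).resolve_left hmove
  refine ⟨r * ⟨x, M.mem_centralizer hxQ⟩, ?_, ?_⟩
  · show (r : G) * x * ((r : G) * x) = 1
    calc (r : G) * x * ((r : G) * x) = ((r : G) * x * (r : G)⁻¹ * x⁻¹) * (x * ((r : G) * r) * x) := by group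
      _ = (g0 * z * g0⁻¹) * (x * (g0 * z * g0⁻¹) * x) := by rw [← commutatorElement_def, hcomm, h]
      _ = (g0 * z * g0⁻¹) * ((g0 * z * g0⁻¹) * (x * x)) := by
        rw [DP.z_central x hxP, mul_assoc (g0 * z * g0⁻¹)]
      _ = 1 := by rw [hxx, mul_one, DP.z_sq]
  · rw [map_mul, hre, (M.κ_ker ⟨x, M.mem_centralizer hxQ⟩).2 hxQ, mul_one]

theorem exists_involution_lift [Finite G] (M : Setting Q z) :
    ∃ a : Subgroup.centralizer ({z} : Set G),
      (a : G) * a = 1 ∧ M.κ a = QuotientGroup.mk invEl := by
  obtain ⟨a, ha, hκ⟩ := exists_sign_lift M (Golay.pts invWord)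
    (Golay.mem_supports_of_isCode invWord_code.1)
    (Golay.mem_pts.2 invWord_code.2.1)
    (fun h => by
      have := Golay.mem_pts.1 h
      rw [show Golay.idx (some 0 : GolayPt) = 0 from rfl, invWord_code.2.2] at this
      exact Bool.false_ne_true this)
  obtain ⟨h, hh⟩ := M.exists_lift frameEl
  refine ⟨h * a * h⁻¹, ?_, ?_⟩
  · show (h : G) * a * (h : G)⁻¹ * ((h : G) * a * (h : G)⁻¹) = 1
    rw [conj_mul, ha, mul_one, mul_inv_cancel]
  · rw [map_mul, map_mul, map_inv, hκ, ← hh]
    rfl

end

end Cfsg.Agent.MonsterSeven
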