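import Cfsg.Agent.Lib.Leech.MatEl
import Cfsg.Agent.Lib.LargeExtraspecial.MonsterLattice

/-!
# Lattice vectors given by lists

* `inLatL_of_mem` : completeness of the membership test
* `vecL`, `cgL`, `cg_of_cgL` : the vector of a list and the test of congruence modulo twice the lattice
* `row` : decoding of a coded row
-/

set_option autoImplicit false
open Cfsg

namespace Cfsg.Agent.MonsterSeven

open Leech MonsterLattice

theorem word_lt {n : ℕ} (l : List ℤ) (hl : l.length ≤ n) : oddMask l < 2 ^ n :=
  Nat.lt_pow_two_of_testBit _ fun i hi => by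
    rw [testBit_oddMask, List.getD_eq_default _ _ (by omega)]
    decide

theorem one_mem_code : (fun _ => 1 : GolayPt → ZMod 2) ∈ golayCode := by
  convert Golay.mem_supports_iff_word.1 Golay.univ_mem using 1
  funext p
  have : (Golay.maskOf Finset.univ).testBit (Golay.idx p) = true := by
    rw [← Golay.mem_pts, Golay.pts_maskOf]; exact Finset.mem_univ p
  simp [Golay.word, this]

theorem inLatL_of_mem {l : List ℤ} (hl : l.length = 24) (h : vOf l ∈ leechLattice) :
    inLatL l = true := by
  obtain ⟨m', a, h1, h2, h3⟩ := Leech.mem_iff.1 h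
  match l, hl with
  | x :: r, hl =>
    have hpt : ∀ k < 24, ∃ i : GolayPt, Golay.idx i = k := fun k hk => ⟨Golay.pt k, Golay.idx_pt hk⟩
    have he : ∀ i : GolayPt, (x :: r).getD (Golay.idx i) 0 = m' + 2 * a i := h1
    obtain ⟨i0, hi0⟩ := hpt 0 (by norm_num)
    have hx : x % 2 = m' % 2 := by
      have := he i0
      rw [hi0, List.getD_cons_zero] at this
      omega
    set m := x % 2 with hm
    set b := (x :: r).map fun y => (y - m) / 2 with hb
    obtain ⟨k, hk⟩ : ∃ k, m' = m + 2 * k := ⟨(m' - m) / 2, by omega⟩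
    have hba : ∀ i : GolayPt, b.getD (Golay.idx i) 0 = a i + k := fun i => by
      have hi : Golay.idx i < (x :: r).length := hl ▸ Golay.idx_lt i
      rw [hb, List.getD_eq_getElem _ _ (by simpa using hi), List.getElem_map]
      have := he i
      rw [List.getD_eq_getElem _ _ hi] at this
      omega
    have hblen : b.length = 24 := by rw [hb, List.length_map, hl]
    simp only [inLatL, inLatHalf, ← hm, ← hb, Bool.and_eq_true, List.all_eq_true, beq_iff_eq, hl,
      true_and]
    refine ⟨fun y hy => ?_, ?_, ?_⟩
    · obtain ⟨j, hj, rfl⟩ := List.getElem_of_mem hy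
      obtain ⟨i, hi⟩ := hpt j (hl ▸ hj)
      have := he i
      rw [hi, List.getD_eq_getElem _ _ hj] at this
      omega
    · rw [sumL_eq_sum, hblen, ← sum_idx fun j => b.getD j 0]
      simp only [hba, Finset.sum_add_distrib, Finset.sum_const, Finset.card_univ]
      rw [show Fintype.card GolayPt = 24 from rfl, nsmul_eq_mul]
      push_cast
      simp only [Int.ModEq] at h2
      omega
    · refine (Golay.word_mem_golayCode_iff (word_lt b hblen.le)).1 ?_
      have hw : Golay.word (oddMask b) = mod2 a + (k : ZMod 2) • fun _ => 1 := by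
        funext i
        simp only [Golay.word, testBit_oddMask, hba, Pi.add_apply, Pi.smul_apply, smul_eq_mul,
          mul_one, mod2, beq_iff_eq]
        rcases Int.emod_two_eq_zero_or_one (a i + k) with e | e
        · rw [if_neg (by omega), ← Int.cast_add, eq_comm, ZMod.intCast_zmod_eq_zero_iff_dvd]
          push_cast; omega
        · rw [if_pos e, ← Int.cast_add, ← Int.cast_one, ZMod.intCast_eq_intCast_iff']
          push_cast; omega
      rw [hw]
      exact golayCode.add_mem h3 (golayCode.smul_mem _ one_mem_code)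

/-- Continue with an evaluated number. -/
def forceN {α : Type} (n : ℕ) (k : ℕ → α) : α :=
  match n with
  | 0 => k 0
  | m + 1 => k (m + 1)

theorem forceN_eq {α : Type} (n : ℕ) (k : ℕ → α) : forceN n k = k n := by cases n <;> rfl

/-- The membership test with the mask evaluated first. -/
def inLatF : List ℤ → Bool
  | [] => false
  | x :: l => (x :: l).length == 24 && ((x :: l).all fun y => (y - x % 2) % 2 == 0) &&
      ((sumL ((x :: l).map fun y => (y - x % 2) / 2) - 2 * (x % 2)) % 4 == 0 &&
        forceN (oddMask ((x :: l).map fun y => (y - x % 2) / 2)) fun m =>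
          forceN (m % 4096) fun r => forceN (Golay.enc r) fun e => e == m)

theorem inLatF_eq : ∀ l : List ℤ, inLatF l = inLatL l
  | [] => rfl
  | x :: l => by simp only [inLatF, inLatL, inLatHalf, forceN_eq, Golay.isCode]

/-- The lattice vector of a list, or zero. -/
def vecL (l : List ℤ) : leechLattice :=
  if h : inLatL l = true then ⟨vOf l, mem_of_inLatL h⟩ else 0

theorem coe_vecL {l : List ℤ} (h : inLatL l = true) : (vecL l : GolayPt → ℤ) = vOf l := by
  rw [vecL, dif_pos h]

/-- The entrywise difference. -/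
def subL (x y : List ℤ) : List ℤ := List.zipWith (· - ·) x y

/-- Congruence modulo twice the lattice. -/
def cgL (x y : List ℤ) : Bool :=
  x.length == 24 && y.length == 24 && (subL x y).all (fun a => a % 2 == 0) &&
    inLatF ((subL x y).map (· / 2))

theorem congr_of_cgL {x y : List ℤ} (h : cgL x y = true) : Congr (vOf x) (vOf y) := by
  simp only [cgL, inLatF_eq, Bool.and_eq_true, beq_iff_eq, List.all_eq_true] at h
  obtain ⟨⟨⟨hx, hy⟩, he⟩, hm⟩ := h
  refine ⟨_, mem_of_inLatL hm, funext fun i => ?_⟩
  have hs : (subL x y).length = 24 := by simp [subL, hx, hy]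
  have h1 : Golay.idx i < (subL x y).length := hs ▸ Golay.idx_lt i
  have h2 := he _ (List.getElem_mem h1)
  have h3 : (subL x y)[Golay.idx i] = x[Golay.idx i]'(hx ▸ Golay.idx_lt i) - y[Golay.idx i]'(hy ▸ Golay.idx_lt i) := by
    simp [subL]
  simp only [vOf, Pi.sub_apply, Pi.smul_apply, nsmul_eq_mul, Nat.cast_ofNat]
  rw [List.getD_eq_getElem _ _ (hx ▸ Golay.idx_lt i), List.getD_eq_getElem _ _ (hy ▸ Golay.idx_lt i),
    List.getD_eq_getElem _ _ (by simpa using h1), List.getElem_map, ← h3]
  omega

theorem cg_of_cgL {v w : leechLattice} {x y : List ℤ} (hv : (v : GolayPt → ℤ) = vOf x)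
    (hw : (w : GolayPt → ℤ) = vOf y) (h : cgL x y = true) : Cg v w := by
  rw [Cg, hv, hw]; exact congr_of_cgL h

theorem Cg.add' {a b c d : leechLattice} (h : Cg a b) (h' : Cg c d) : Cg (a + c) (b + d) := by
  obtain ⟨u, rfl⟩ := cg_iff.1 h
  obtain ⟨w, rfl⟩ := cg_iff.1 h'
  exact cg_iff.2 ⟨u + w, by abel⟩

theorem cg_twice (u : leechLattice) : Cg (u + u) 0 := cg_iff.2 ⟨u, (zero_add _).symm⟩

theorem cg_neg_left {a b : leechLattice} (h : Cg a b) : Cg (-a) b := (MonsterLattice.Cg.neg a).symm.trans h

/-- A row of 24 entries coded by five bits each, offset by 16. -/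
def row (n : ℕ) : List ℤ :=
  (List.range 24).map fun j => (((n >>> (5 * j)) &&& 31 : ℕ) : ℤ) - 16

theorem length_row (n : ℕ) : (row n).length = 24 := by simp [row]

end Cfsg.Agent.MonsterSeven
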