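import Cfsg.Agent.Lib.MonsterSeven.Held
import Cfsg.Agent.Lib.TransvCent.MixedHe

/-!
# The radicals at two conjugates of z meet in no further conjugates fixed by the element of order seven

* `Ctx.conj_in_both` : a conjugate of `z` in `Q ∩ Q^g ∩ C(b)`, where `g z g⁻¹ = s`, is `z`, `s` or `s * z`
* `mixed_image` : hence the image of `z` in `C(b)/⟨b⟩` satisfies `TransvCent.Mixed`
-/

set_option autoImplicit false
set_option maxRecDepth 100000
open Cfsg
open scoped commutatorElement

namespace Cfsg.Agent.MonsterSeven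

open Leech MonsterLattice Monster LargeExtraspecial

/-- A row with the signs changed on a word. -/
def negW (w : ℕ) (l : List ℤ) : List ℤ :=
  (List.range 24).map fun j => if w.testBit j then -(l.getD j 0) else l.getD j 0

/-- The entrywise sum. -/
def sumW (x y : List ℤ) : List ℤ := (List.range 24).map fun j => x.getD j 0 + y.getD j 0

theorem movedChk : ((List.range 64).all fun n => n == 0 || n == 1 || !(n < 8 || n % 8 == 0) ||
    (List.range 12).any fun k => !cgL (negW (Golay.enc (2 ^ k)) (repL n)) (repL n) &&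
      !cgL (negW (Golay.enc (2 ^ k)) (repL n)) (sumW (repL 1) (repL n))) = true := by decide +kernel

theorem cgL_of_cg {v w : leechLattice} {x y : List ℤ} (hx : x.length = 24) (hy : y.length = 24)
    (hv : (v : GolayPt → ℤ) = vOf x) (hw : (w : GolayPt → ℤ) = vOf y) (h : Cg v w) : cgL x y = true := by
  obtain ⟨u, hu, he⟩ := h
  have key : ∀ i, x.getD (Golay.idx i) 0 - y.getD (Golay.idx i) 0 = 2 * u i := fun i => by
    have := congrFun he i
    rw [hv, hw] at this
    simp only [vOf, Pi.sub_apply, Pi.smul_apply, nsmul_eq_mul, Nat.cast_ofNat] at this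
    exact this
  have hs : (subL x y).length = 24 := by simp [subL, hx, hy]
  have hget : ∀ j < 24, (subL x y).getD j 0 = x.getD j 0 - y.getD j 0 := fun j hj => by
    rw [List.getD_eq_getElem _ _ (by omega), List.getD_eq_getElem _ _ (by omega), List.getD_eq_getElem _ _ (by omega)]
    simp [subL]
  simp only [cgL, inLatF_eq, hx, hy, Bool.and_eq_true, beq_self_eq_true, true_and, List.all_eq_true]
  refine ⟨fun a ha => ?_, inLatL_of_mem (by simp [hs]) ?_⟩
  · obtain ⟨j, hj, rfl⟩ := List.mem_iff_getElem.1 ha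
    rw [hs] at hj
    have := key (Golay.pt j)
    rw [Golay.idx_pt hj, ← hget j hj, List.getD_eq_getElem _ _ (by omega)] at this
    rw [beq_iff_eq]; omega
  · have : vOf ((subL x y).map (· / 2)) = u := funext fun i => by
      have hi := Golay.idx_lt i
      simp only [vOf]
      rw [List.getD_eq_getElem _ _ (by simpa [hs] using hi), List.getElem_map]
      have := key i
      rw [← hget _ hi, List.getD_eq_getElem _ _ (by omega)] at this
      omega
    rw [this]; exact hu

theorem signs_le_Epre {G : Type*} [Group G] [Finite G] (X : Ctx G) (hsne : X.s ≠ X.z) {g : G}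
    (hg : g * X.z * g⁻¹ = X.s) : signs ≤ X.M.Epre g := by
  have hv : sqNorm (R 1 : GolayPt → ℤ) = 64 := (norm_R_eq (by norm_num) (by norm_num)).2 (by norm_num)
  obtain ⟨hle, hn⟩ := X.M.E0_le g (v := R 1) (hg ▸ X.hs) (Or.inr (Or.inr hv))
  rw [clsStab_R_one] at hle hn
  have h1 := two_group_le_signs (X.M.isPGroup_Epre g) hle hn
  refine (Subgroup.eq_of_le_of_card_ge h1 ?_).ge
  rw [X.M.natCard_Epre, (X.M.card_inter g (hg ▸ X.M.rel_mem X.hs) (hg ▸ hsne)).2.1, natCard_signs]
  norm_num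

/-- A conjugate of `z` in both extraspecial groups and commuting with `b` lies in `⟨z, s⟩`. -/
theorem Ctx.conj_in_both {G : Type*} [Group G] [Finite G] (X : Ctx G) (hsne : X.s ≠ X.z) {g x : G}
    (hg : g * X.z * g⁻¹ = X.s) (hxQ : x ∈ X.Q) (hxP : x ∈ conjS g X.Q) (hxb : x * X.b = X.b * x)
    (hc : IsConj X.z x) : x = X.z ∨ x = X.s ∨ x = X.s * X.z := by
  by_cases hz : x = X.z
  · exact Or.inl hz
  right
  obtain ⟨v, hv, hvn⟩ := X.M.rep64 hxQ hc hz
  obtain ⟨n, hn, hn'⟩ := X.mem_R0_iff.1 ⟨hxQ, Subgroup.mem_centralizer_singleton_iff.2 hxb⟩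
  have h0 : n ≠ 0 := by
    rintro rfl
    rw [R_zero] at hn'
    rcases X.M.rel_zero hn' with e | e
    · exact (X.M.ne_of_rel hv (Or.inr (Or.inr hvn))).1 e
    · exact hz e
  have hidx : n < 8 ∨ n % 8 = 0 := by
    refine (norm_R_eq hn h0).1 ?_
    have hle : sqNorm (MonsterSeven.R n : GolayPt → ℤ) ≤ 64 := by rcases norm_R hn h0 with e | e | e <;> omega
    rcases congr_short v.2 ((X.M.rel_cg hv hn').2 (Or.inl rfl)) hvn.le hle with e | e | ⟨-, e, -⟩
    · rw [← e, hvn]
    · rw [e, sqNorm_neg] at hvn; exact hvn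
    · exact e
  by_cases h1 : n = 1
  · subst h1
    exact (X.M.rel_cg X.hs hn').1 (cg_refl _)
  exfalso
  have hchk := List.all_eq_true.1 movedChk n (List.mem_range.2 hn)
  simp only [Bool.or_eq_true, beq_iff_eq, Bool.not_eq_true', List.any_eq_true, List.mem_range,
    Bool.and_eq_true, Bool.or_eq_false_iff, decide_eq_false_iff_not, beq_eq_false_iff_ne] at hchk
  rcases hchk with ((h | h) | h) | ⟨k, -, hk1, hk2⟩
  · exact h0 h
  · exact h1 h
  · rcases hidx with hi | hi
    · exact h.1 hi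
    · exact h.2 hi
  set w := Golay.enc (2 ^ k)
  have hw : Golay.isCode w = true := Golay.isCode_enc _
  set ε := signEl (Golay.pts w) (Golay.mem_supports_of_isCode hw)
  have hε : ε ∈ X.M.Epre g :=
    signs_le_Epre X hsne hg (X.M.signEl_mem_signs _ (Golay.mem_supports_of_isCode hw))
  obtain ⟨r, hr, hre⟩ := Subgroup.mem_comap.1 hε
  have hrP : (r : G) ∈ conjS g X.Q := Subgroup.mem_subgroupOf.1 hr
  have hrel := X.M.rel_equiv ε r hre.symm hn'
  have hεv : ((ε • R n : leechLattice) : GolayPt → ℤ) = vOf (negW w (repL n)) := by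
    rw [negW, vOf_range, vec_signEl, coe_R hn]
    funext i
    simp only [Golay.mem_pts, vOf]
  have DP := X.M.D.conjugate g
  rcases DP.comm (r : G) hrP x hxP with h | h
  · rw [commutatorElement_eq_one_iff_mul_comm] at h
    rw [h, mul_inv_cancel_right] at hrel
    exact absurd (cgL_of_cg (y := repL n) (by simp [negW]) (length_row _) hεv (coe_R hn) ((X.M.rel_cg hrel hn').2 (Or.inl rfl)))
      (by rw [hk1]; exact Bool.false_ne_true)
  · rw [hg] at h
    have e : (r : G) * x * (r : G)⁻¹ = X.s * x := by rw [← h, commutatorElement_def]; group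
    rw [e] at hrel
    refine absurd (cgL_of_cg (y := sumW (repL 1) (repL n)) (by simp [negW]) (by simp [sumW]) hεv ?_
      ((X.M.rel_cg hrel (X.M.rel_add X.hs hn')).2 (Or.inl rfl))) (by rw [hk2]; exact Bool.false_ne_true)
    rw [AddSubgroup.coe_add, coe_R (by norm_num), coe_R hn, sumW, vOf_range]
    rfl

/-- The image of `z` in the centraliser modulo `⟨b⟩` has mixed radicals. -/
theorem mixed_image {G : Type*} [Group G] [Finite G] (X : Ctx G) {CB : Subgroup G}
    (hCB : CB = Subgroup.centralizer ({X.b} : Set G)) {H : Type*} [Group H] (π : CB →* H)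
    (hπ : Function.Surjective π) (hπk : ∀ c, π c = 1 ↔ (c : G) ∈ Subgroup.zpowers X.b) (zl : CB)
    (hzl : (zl : G) = X.z) (R : Subgroup (Subgroup.centralizer ({π zl} : Set H)))
    (hO : ∀ N : Subgroup (Subgroup.centralizer ({π zl} : Set H)), N.Normal → IsPGroup 2 N → N ≤ R)
    (hlift : ∀ d ∈ R, ∃ q : CB, (q : G) ∈ X.Q ∧ π q = (d : H)) : TransvCent.Mixed (π zl) := by
  have hrad : ∀ y ∈ TransvCent.radOf (π zl), ∃ q : CB, (q : G) ∈ X.Q ∧ π q = y := by
    rintro y ⟨d, hd, rfl⟩
    exact hlift d (hO _ (Cores.pCore_normal 2 _) (Cores.isPGroup_pCore 2 _) hd)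
  have hb : ∀ u : CB, (u : G) * X.b = X.b * u := fun u =>
    Subgroup.mem_centralizer_singleton_iff.1 (hCB ▸ u.2 : (u : G) ∈ Subgroup.centralizer ({X.b} : Set G))
  have hzz : (zl : G) * zl = 1 := by rw [hzl]; exact X.M.D.z_sq
  have eqlift : ∀ u q : CB, (u : G) * u = 1 → (q : G) ∈ X.Q → π u = π q → (u : G) = q := by
    intro u q hu hq he
    have hqq : (q : G) * q = 1 := by
      refine X.not_mem_Q ((hπk (q * q)).1 ?_) (mul_mem hq hq)
      rw [map_mul, ← he, ← map_mul, show u * u = 1 from Subtype.ext hu, map_one]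
    have hm : (u : G) * (q : G)⁻¹ ∈ Subgroup.zpowers X.b :=
      (hπk (u * q⁻¹)).1 (by rw [map_mul, map_inv, he, mul_inv_cancel])
    obtain ⟨i, hi⟩ := Subgroup.mem_zpowers_iff.1 hm
    have hcm : Commute (X.b ^ i) (q : G) := Commute.zpow_left (hb q).symm i
    have hu' : (u : G) = X.b ^ i * q := by rw [hi]; group
    have h3 : X.b ^ i * X.b ^ i = 1 := by
      have h4 : (X.b ^ i * (q : G)) * (X.b ^ i * q) = (X.b ^ i * X.b ^ i) * (q * q) :=
        hcm.symm.mul_mul_mul_comm _ _
      rw [← hu', hu, hqq, mul_one] at h4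
      exact h4.symm
    rw [hu', X.eq_one_of_sq (zpow_mem (Subgroup.mem_zpowers _) i) h3, one_mul]
  have sqconj : ∀ a y : G, y * y = 1 → a * y * a⁻¹ * (a * y * a⁻¹) = 1 := fun a y h => by
    calc a * y * a⁻¹ * (a * y * a⁻¹) = a * (y * y) * a⁻¹ := by group
      _ = 1 := by rw [h, mul_one, mul_inv_cancel]
  intro γ σ ha hne hs hcs ht
  obtain ⟨c, rfl⟩ := hπ γ
  obtain ⟨qa, hqa, ea⟩ := hrad _ ha
  obtain ⟨qs, hqs, es⟩ := hrad _ hs
  obtain ⟨qt, hqt, et⟩ := hrad _ ht
  obtain ⟨κ, hκ⟩ := isConj_iff.1 hcs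
  obtain ⟨k, rfl⟩ := hπ κ
  have hA : (c : G) * X.z * (c : G)⁻¹ = qa := by
    rw [← hzl]
    exact eqlift (c * zl * c⁻¹) qa (sqconj _ _ hzz) hqa (by rw [map_mul, map_mul, map_inv, ea])
  have hS : (k : G) * X.z * (k : G)⁻¹ = qs := by
    rw [← hzl]
    exact eqlift (k * zl * k⁻¹) qs (sqconj _ _ hzz) hqs (by rw [map_mul, map_mul, map_inv, es, hκ])
  have hT : (c : G) * qs * (c : G)⁻¹ = qt := by
    refine eqlift (c * qs * c⁻¹) qt (sqconj _ _ ?_) hqt (by rw [map_mul, map_mul, map_inv, es, et])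
    rw [← hS]; exact sqconj _ _ X.M.D.z_sq
  have hne' : (qa : G) ≠ X.z := fun e => hne (by
    rw [← ea, show qa = zl from Subtype.ext (e.trans hzl.symm)])
  have hac : IsConj X.z (qa : G) := isConj_iff.2 ⟨c, hA⟩
  have hbA : Subgroup.zpowers X.b ≤ Subgroup.centralizer ({X.z, (qa : G)} : Set G) := by
    rw [Subgroup.zpowers_le, centralizer_pair]
    exact ⟨X.hbz, Subgroup.mem_centralizer_singleton_iff.2 (hb qa).symm⟩
  have h7 : Nat.card (Subgroup.zpowers X.b) =
      7 ^ (Nat.card (Subgroup.centralizer ({X.z, (qa : G)} : Set G))).factorization 7 := by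
    obtain ⟨M1, h1⟩ := exists_normal_form X.M hqa hac hne'
    obtain ⟨d7, d49⟩ := natCard_cent_pair M1 h1
    have h0 : Nat.card (Subgroup.centralizer ({X.z, (qa : G)} : Set G)) ≠ 0 := Nat.card_pos.ne'
    have a := (Nat.Prime.pow_dvd_iff_le_factorization (by norm_num : Nat.Prime 7) h0 (k := 1)).1
      (by simpa using d7)
    have b : ¬ 2 ≤ _ := fun h =>
      d49 ((Nat.Prime.pow_dvd_iff_le_factorization (by norm_num : Nat.Prime 7) h0).2 h)
    rw [Nat.card_zpowers, X.hb7, show (Nat.card (Subgroup.centralizer ({X.z, (qa : G)} : Set G))).factorization 7 = 1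
      by omega, pow_one]
  obtain ⟨M', hrel, b', hb'z, hb's, hgen, hb'7, hκ'⟩ := exists_adapted X.M hqa hac hne' hbA h7
  let X' : Ctx G := ⟨X.z, X.Q, M', qa, hrel, b', hb'z, hb's, hb'7, hκ'⟩
  have hxb : (qt : G) * b' = b' * qt := by
    obtain ⟨i, hi⟩ := Subgroup.mem_zpowers_iff.1 (hgen ▸ Subgroup.mem_zpowers b' : b' ∈ Subgroup.zpowers X.b)
    rw [← hi]
    exact (Commute.zpow_right (hb qt) i).eq
  have hxP : (qt : G) ∈ conjS (c : G) X.Q := by
    refine mem_conjS.2 ?_
    rw [← hT, show (c : G)⁻¹ * ((c : G) * qs * (c : G)⁻¹) * c = qs by group]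
    exact hqs
  have hxc : IsConj X.z (qt : G) := isConj_iff.2 ⟨(c : G) * k, by rw [← hT, ← hS]; group⟩
  have hzq : (qa : G) * X.z = X.z * qa := X.M.D.z_central qa hqa
  rcases X'.conj_in_both hne' hA hqt hxP hxb hxc with e | e | e
  · exact Or.inl (by rw [← et, show qt = zl from Subtype.ext (e.trans hzl.symm)])
  · exact Or.inr (Or.inl (by rw [← et, show qt = qa from Subtype.ext e, ea]))
  · refine Or.inr (Or.inr ?_)
    have hq : qt = zl * qa := Subtype.ext (by rw [Subgroup.coe_mul, hzl, ← hzq]; exact e)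
    rw [← et, hq, map_mul, ea]

end Cfsg.Agent.MonsterSeven
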