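import Cfsg.Agent.Lib.MonsterSeven.Frame

/-!
# The centraliser of the element of order seven inside C(z) and inside Q

* `Ctx` : a setting with `R 1 ↦ s` and `b ↦ g7`
* `Ctx.mem_iff`, `Ctx.natCard_R0` : `Q ∩ C(b)` consists of the lifts of the fixed classes, of order 128
* `Ctx.θ` : the map of `C(z) ∩ C(b)` onto `SL(3, 2)`;  `Ctx.θ_ker`
* `Ctx.fusion` : conjugates of z in `Q ∩ C(b)` are conjugate to z in `C(b)`
-/

set_option autoImplicit false
open Cfsg
open scoped commutatorElement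

namespace Cfsg.Agent.MonsterSeven

open Leech MonsterLattice Monster LargeExtraspecial

/-- A setting of Monster type adapted to an element of order seven. -/
structure Ctx (G : Type*) [Group G] where
  z : G
  Q : Subgroup G
  M : Setting Q z
  s : G
  hs : M.rel (R 1) s
  b : G
  hbz : b ∈ Subgroup.centralizer ({z} : Set G)
  hbs : b * s = s * b
  hb7 : orderOf b = 7
  hκ : M.κ ⟨b, hbz⟩ = QuotientGroup.mk g7

namespace Ctx

variable {G : Type*} [Group G] (X : Ctx G)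

/-- The element as an element of `C(z)`. -/
def bC : Subgroup.centralizer ({X.z} : Set G) := ⟨X.b, X.hbz⟩

theorem bz : X.b * X.z = X.z * X.b := Subgroup.mem_centralizer_singleton_iff.1 X.hbz

theorem b_seven : X.b ^ 7 = 1 := by rw [← X.hb7, pow_orderOf_eq_one]

theorem eq_one_of_sq {x : G} (hx : x ∈ Subgroup.zpowers X.b) (h : x * x = 1) : x = 1 := by
  have h2 : orderOf x ∣ 2 := orderOf_dvd_of_pow_eq_one (by rw [pow_two]; exact h)
  have h7 : orderOf x ∣ 7 := X.hb7 ▸ orderOf_dvd_of_mem_zpowers hx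
  exact orderOf_eq_one_iff.1 (Nat.dvd_one.1 (by simpa using Nat.dvd_gcd h2 h7))

theorem not_mem_Q {x : G} (hx : x ∈ Subgroup.zpowers X.b) (hQ : x ∈ X.Q) : x = 1 := by
  obtain ⟨k, hk⟩ := LargeExtraspecial.isPGroup_of_extraspecial X.M.extra ⟨x, hQ⟩
  have h2 : orderOf x ∣ 2 ^ k := orderOf_dvd_of_pow_eq_one (by simpa using congrArg Subtype.val hk)
  have h7 : orderOf x ∣ 7 := X.hb7 ▸ orderOf_dvd_of_mem_zpowers hx
  refine orderOf_eq_one_iff.1 (Nat.dvd_one.1 ?_)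
  have h := Nat.dvd_gcd h7 h2
  rwa [Nat.Coprime.gcd_eq_one (Nat.Coprime.pow_right k (by norm_num : Nat.Coprime 7 2))] at h

theorem s_sq : X.s * X.s = 1 := by
  by_contra h
  have h0 := X.M.f_eq_zero (v := R 1) (Or.inr ((norm_R_eq (by norm_num) (by norm_num)).2 (by norm_num)))
  rw [X.M.f_eq X.hs, if_neg h] at h0
  exact one_ne_zero h0

theorem fix_of_comm {v : leechLattice} {x : G} (hx : X.M.rel v x) (hc : x * X.b = X.b * x) : Fix v := by
  have h1 := X.M.rel_equiv g7 X.bC X.hκ.symm hx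
  rw [show ((X.bC : Subgroup.centralizer ({X.z} : Set G)) : G) = X.b from rfl, ← hc, mul_inv_cancel_right] at h1
  exact (X.M.rel_cg h1 hx).2 (Or.inl rfl)

theorem comm_of_fix {v : leechLattice} {x : G} (hx : X.M.rel v x) (hf : Fix v) : x * X.b = X.b * x := by
  have h1 := X.M.rel_equiv g7 X.bC X.hκ.symm hx
  rw [show ((X.bC : Subgroup.centralizer ({X.z} : Set G)) : G) = X.b from rfl] at h1
  rcases (X.M.rel_cg h1 hx).1 hf with e | e
  · exact (eq_mul_inv_iff_mul_eq.1 e)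
  · have h2 : (X.b * X.b) * x * (X.b * X.b)⁻¹ = x := by
      have hz : X.b * X.z * X.b⁻¹ = X.z := by rw [X.bz]; group
      have e' : X.b * x * X.b⁻¹ = x * X.z := by
        have := congrArg (· * X.z) e
        simp only [mul_assoc, X.M.D.z_sq, mul_one] at this
        simp only [mul_assoc, this]
      calc (X.b * X.b) * x * (X.b * X.b)⁻¹ = X.b * (X.b * x * X.b⁻¹) * X.b⁻¹ := by group
        _ = X.b * (x * X.z) * X.b⁻¹ := by rw [e']
        _ = (X.b * x * X.b⁻¹) * (X.b * X.z * X.b⁻¹) := by group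
        _ = x := by rw [hz, e', mul_assoc, X.M.D.z_sq, mul_one]
    have h3 : Commute (X.b * X.b) x := mul_inv_eq_iff_eq_mul.1 h2
    have h4 : Commute ((X.b * X.b) ^ 4) x := h3.pow_left 4
    rw [show (X.b * X.b) ^ 4 = X.b ^ 7 * X.b by rw [← pow_two, ← pow_mul, ← pow_succ], X.b_seven, one_mul] at h4
    exact h4.eq.symm

theorem z_comm : X.z * X.b = X.b * X.z := X.bz.symm

/-- The chosen lift. -/
noncomputable def lift (n : ℕ) : G := (X.M.exists_rel (R n)).choose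

theorem rel_lift (n : ℕ) : X.M.rel (R n) (X.lift n) := (X.M.exists_rel (R n)).choose_spec

theorem mem_R0_iff {x : G} : x ∈ X.Q ⊓ Subgroup.centralizer ({X.b} : Set G) ↔
    ∃ n < 64, X.M.rel (R n) x := by
  constructor
  · rintro ⟨hQ, hc⟩
    obtain ⟨v, hv⟩ := X.M.rel_surj x hQ
    obtain ⟨n, hn, hcg⟩ := exists_idx (X.fix_of_comm hv (Subgroup.mem_centralizer_singleton_iff.1 hc))
    exact ⟨n, hn, X.M.rel_of_cg hv hcg⟩
  · rintro ⟨n, hn, h⟩
    exact ⟨X.M.rel_mem h, Subgroup.mem_centralizer_singleton_iff.2 (X.comm_of_fix h (fix_R hn))⟩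

theorem natCard_R0 : Nat.card (X.Q ⊓ Subgroup.centralizer ({X.b} : Set G) : Subgroup G) = 128 := by
  have hmem : ∀ (n : Fin 64) (e : Bool),
      (if e then X.lift n * X.z else X.lift n) ∈ X.Q ⊓ Subgroup.centralizer ({X.b} : Set G) := fun n e =>
    X.mem_R0_iff.2 ⟨n, n.2, by cases e <;> simp [X.rel_lift, X.M.rel_z (X.rel_lift n)]⟩
  let f : Fin 64 × Bool → (X.Q ⊓ Subgroup.centralizer ({X.b} : Set G) : Subgroup G) :=
    fun p => ⟨_, hmem p.1 p.2⟩
  have hrel : ∀ p, X.M.rel (R p.1) (f p) := fun ⟨n, e⟩ => by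
    cases e <;> simp [f, X.rel_lift, X.M.rel_z (X.rel_lift n)]
  have hf : Function.Bijective f := by
    constructor
    · rintro ⟨n, e⟩ ⟨m, e'⟩ h
      have hn : n = m := Fin.ext <| idx_unique n.2 m.2 (cg_refl _) <| by
        refine (X.M.rel_cg (hrel (n, e)) (hrel (m, e'))).2 (Or.inl ?_)
        rw [h]
      subst hn
      have h' := congrArg Subtype.val h
      cases e <;> cases e' <;> simp [f, X.M.D.z_ne] at h' ⊢
    · rintro ⟨x, hx⟩
      obtain ⟨n, hn, h⟩ := X.mem_R0_iff.1 hx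
      rcases (X.M.rel_cg (X.rel_lift n) h).1 (cg_refl _) with e | e
      · exact ⟨(⟨n, hn⟩, false), Subtype.ext e.symm⟩
      · exact ⟨(⟨n, hn⟩, true), Subtype.ext e.symm⟩
  rw [← Nat.card_congr (Equiv.ofBijective f hf)]
  simp

theorem commDot : ∀ n < 64, n ≠ 0 → ∃ m < 64, ¬ (16 : ℤ) ∣ dotL (repL n) (repL m) := by decide +kernel

theorem center_R0 [Finite G] {x : G} (hx : x ∈ X.Q ⊓ Subgroup.centralizer ({X.b} : Set G))
    (hc : ∀ y ∈ X.Q ⊓ Subgroup.centralizer ({X.b} : Set G), y * x = x * y) : x = 1 ∨ x = X.z := by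
  obtain ⟨n, hn, h⟩ := X.mem_R0_iff.1 hx
  by_cases h0 : n = 0
  · subst h0; rw [R_zero] at h; exact X.M.rel_zero h
  · exfalso
    obtain ⟨m, hm, hd⟩ := commDot n hn h0
    refine hd ?_
    have := (X.M.comm_iff h (X.rel_lift m)).1 (hc _ (X.mem_R0_iff.2 ⟨m, hm, X.rel_lift m⟩)).symm
    rw [coe_R hn, coe_R hm] at this
    have e := vOf_dotProduct (repL n) (x := repL m) (length_row _)
    rw [← e]
    exact this

/-- `C(z) ∩ C(b)`. -/
def T : Subgroup G := Subgroup.centralizer ({X.z} : Set G) ⊓ Subgroup.centralizer ({X.b} : Set G)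

theorem exists_eta (t : X.T) : ∃ η : cent7, (QuotientGroup.mk (η : Co0) : Spor.Co1) = X.M.κ ⟨t, t.2.1⟩ := by
  obtain ⟨η, hη⟩ := QuotientGroup.mk_surjective (X.M.κ ⟨t, t.2.1⟩)
  refine ⟨⟨η, ?_⟩, hη⟩
  have h1 : (QuotientGroup.mk (η * g7 * η⁻¹ * g7⁻¹) : Spor.Co1) = 1 := by
    rw [QuotientGroup.mk_mul, QuotientGroup.mk_mul, QuotientGroup.mk_mul, QuotientGroup.mk_inv,
      QuotientGroup.mk_inv, hη, ← X.hκ, ← map_inv, ← map_inv, ← map_mul, ← map_mul, ← map_mul]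
    convert map_one X.M.κ using 2
    refine Subtype.ext ?_
    show (t : G) * X.b * (t : G)⁻¹ * X.b⁻¹ = 1
    rw [Subgroup.mem_centralizer_singleton_iff.1 t.2.2]
    group
  rcases Leech.center_eq ((QuotientGroup.eq_one_iff _).1 h1) with e | e
  · exact mem_cent7.2 (mul_inv_eq_iff_eq_mul.1 (mul_inv_eq_one.1 e))
  · exfalso
    have h2 : η * g7 * η⁻¹ = negOne * g7 := mul_inv_eq_iff_eq_mul.1 e
    have h3 := congrArg (· ^ 7) h2
    simp only [conj_pow, g7_seven, mul_one, mul_inv_cancel] at h3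
    rw [(show Commute negOne g7 from ((Subgroup.mem_center_iff.1 Leech.negOne_mem_center) g7).symm).mul_pow,
      g7_seven, mul_one] at h3
    have h4 : negOne * negOne = 1 := co0_ext fun v => by rw [mul_smul, negOne_smul, negOne_smul, neg_neg, one_smul]
    rw [show negOne ^ 7 = (negOne * negOne) ^ 3 * negOne by rw [← pow_two, ← pow_mul, ← pow_succ], h4,
      one_pow, one_mul] at h3
    have h5 := congrArg (fun g : Co0 => ((g • R 1 : leechLattice) : GolayPt → ℤ)) h3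
    simp only [one_smul, negOne_smul, AddSubgroup.coe_neg] at h5
    have h6 : sqNorm (R 1 : GolayPt → ℤ) = 64 := (norm_R_eq (by norm_num) (by norm_num)).2 (by norm_num)
    have h7 : (R 1 : GolayPt → ℤ) = 0 := funext fun i => by
      have := congrFun h5 i
      simp only [Pi.neg_apply] at this
      show (R 1 : GolayPt → ℤ) i = 0
      omega
    rw [h7, Leech.sqNorm_zero] at h6
    norm_num at h6

theorem slHom_center {η ζ : cent7}
    (h : (QuotientGroup.mk (η : Co0) : Spor.Co1) = QuotientGroup.mk (ζ : Co0)) : slHom η = slHom ζ := by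
  have h1 : ((η⁻¹ * ζ : cent7) : Co0) ∈ Subgroup.center Co0 := QuotientGroup.eq.1 h
  have h2 : slHom (η⁻¹ * ζ) = 1 := by
    refine slHom_eq_one_iff.2 fun n hn => ?_
    rcases Leech.center_eq h1 with e | e <;> rw [e]
    · rw [one_smul]; exact cg_refl _
    · rw [negOne_smul]; exact (MonsterLattice.Cg.neg _).symm
  rw [map_mul, map_inv, inv_mul_eq_one] at h2
  exact h2

/-- The map of `C(z) ∩ C(b)` onto `SL(3, 2)`. -/
noncomputable def θ : X.T →* Matrix.SpecialLinearGroup (Fin 3) (ZMod 2) :=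
  MonoidHom.mk' (fun t => slHom (X.exists_eta t).choose) fun t u => by
    rw [← map_mul]
    refine slHom_center ?_
    refine (X.exists_eta (t * u)).choose_spec.trans ?_
    show _ = QuotientGroup.mk (((X.exists_eta t).choose : Co0) * ((X.exists_eta u).choose : Co0))
    rw [QuotientGroup.mk_mul, (X.exists_eta t).choose_spec, (X.exists_eta u).choose_spec, ← map_mul]
    rfl

theorem θ_eq {t : X.T} {η : cent7} (h : (QuotientGroup.mk (η : Co0) : Spor.Co1) = X.M.κ ⟨t, t.2.1⟩) :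
    X.θ t = slHom η :=
  slHom_center ((X.exists_eta t).choose_spec.trans h.symm)

theorem exists_T [Finite G] (η : cent7) :
    ∃ t : X.T, (QuotientGroup.mk (η : Co0) : Spor.Co1) = X.M.κ ⟨t, t.2.1⟩ := by
  obtain ⟨h, hh⟩ := X.M.exists_lift η
  set P := (Subgroup.zpowers (QuotientGroup.mk g7 : Spor.Co1)).comap X.M.κ
  have hconj : X.M.κ (h * X.bC * h⁻¹) = QuotientGroup.mk g7 := by
    rw [map_mul, map_mul, map_inv, ← hh, show X.M.κ X.bC = _ from X.hκ, ← QuotientGroup.mk_inv,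
      ← QuotientGroup.mk_mul, ← QuotientGroup.mk_mul, mem_cent7.1 η.2, mul_inv_cancel_right]
  have hPc : ¬ 49 ∣ Nat.card P := by
    have h1 := natCard_map_mul X.M.κ P
    rw [Subgroup.map_comap_eq_self_of_surjective X.M.κ_surj, Nat.card_zpowers, mk_g7_order] at h1
    haveI : Fact (Nat.Prime 2) := ⟨Nat.prime_two⟩
    obtain ⟨n, hn⟩ := IsPGroup.iff_card.mp (((LargeExtraspecial.isPGroup_of_extraspecial X.M.extra).comap_subtype
      (K := Subgroup.centralizer ({X.z} : Set G))).to_le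
      (le_trans inf_le_right fun x hx => (X.M.κ_ker x).1 hx : (P ⊓ X.M.κ.ker) ≤ _))
    rw [hn] at h1
    rw [← h1]
    intro h49
    have := (Nat.Coprime.pow_right n (by norm_num : Nat.Coprime 49 2)).dvd_of_dvd_mul_right h49
    norm_num at this
  have hbC7 : orderOf X.bC = 7 := by rw [bC, Subgroup.orderOf_mk, X.hb7]
  obtain ⟨m, hm, hmem⟩ := conj_mem_zpowers P hPc
    (show h * X.bC * h⁻¹ ∈ P from Subgroup.mem_comap.2 (hconj ▸ Subgroup.mem_zpowers _))
    (show X.bC ∈ P from Subgroup.mem_comap.2 (by rw [show X.M.κ X.bC = _ from X.hκ]; exact Subgroup.mem_zpowers _))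
    (by rw [show h * X.bC * h⁻¹ = MulAut.conj h X.bC from rfl, MulEquiv.orderOf_eq, hbC7]) hbC7
  obtain ⟨i, hi⟩ := Subgroup.mem_zpowers_iff.1 (Subgroup.mem_comap.1 hm)
  obtain ⟨j, hj⟩ := Subgroup.mem_zpowers_iff.1 hmem
  set h' := X.bC ^ (-i) * m * h with hh'
  have hκ' : X.M.κ h' = QuotientGroup.mk (η : Co0) := by
    rw [hh', map_mul, map_mul, map_zpow, show X.M.κ X.bC = _ from X.hκ, ← hi, ← hh]
    group
  have hjb : h' * X.bC * h'⁻¹ = X.bC ^ j := by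
    calc h' * X.bC * h'⁻¹ = X.bC ^ (-i) * (m * (h * X.bC * h⁻¹) * m⁻¹) * (X.bC ^ (-i))⁻¹ := by
          rw [hh']; group
      _ = X.bC ^ j := by rw [← hj]; group
  have h3 : X.M.κ (h' * X.bC * h'⁻¹ * X.bC⁻¹) = 1 := by
    rw [map_mul, map_mul, map_mul, map_inv, map_inv, hκ', show X.M.κ X.bC = _ from X.hκ,
      ← QuotientGroup.mk_inv, ← QuotientGroup.mk_mul, ← QuotientGroup.mk_mul, mem_cent7.1 η.2,
      mul_inv_cancel_right, mul_inv_cancel]
  have h4 : ((h' * X.bC * h'⁻¹ * X.bC⁻¹ : Subgroup.centralizer ({X.z} : Set G)) : G) = 1 := by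
    refine X.not_mem_Q ?_ ((X.M.κ_ker _).1 h3)
    rw [hjb, Subgroup.coe_mul, SubgroupClass.coe_zpow, Subgroup.coe_inv]
    exact mul_mem (zpow_mem (Subgroup.mem_zpowers _) _) (inv_mem (Subgroup.mem_zpowers _))
  refine ⟨⟨h', h'.2, Subgroup.mem_centralizer_singleton_iff.2 ?_⟩, hκ'.symm⟩
  exact mul_inv_eq_iff_eq_mul.1 (mul_inv_eq_one.1 h4)

theorem θ_surjective [Finite G] : Function.Surjective X.θ := by
  intro A
  obtain ⟨η, rfl⟩ := slHom_surjective A
  obtain ⟨t, ht⟩ := X.exists_T η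
  exact ⟨t, X.θ_eq ht⟩

theorem θ_ker {t : X.T} (h : X.θ t = 1) :
    ∃ q ∈ X.Q ⊓ Subgroup.centralizer ({X.b} : Set G), ∃ j : ℕ, (t : G) = q * X.b ^ j := by
  obtain ⟨η, hη⟩ := X.exists_eta t
  rw [X.θ_eq hη] at h
  obtain ⟨j, -, hj⟩ := slHom_ker h
  have hκt : X.M.κ ⟨t, t.2.1⟩ = X.M.κ X.bC ^ j := by
    rw [← hη, show X.M.κ X.bC = _ from X.hκ, ← QuotientGroup.mk_pow]
    rcases hj with e | e <;> rw [e]
    rw [QuotientGroup.mk_mul, (QuotientGroup.eq_one_iff _).2 Leech.negOne_mem_center, one_mul]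
  refine ⟨(t : G) * (X.b ^ j)⁻¹, ⟨?_, ?_⟩, j, by group⟩
  · have h1 : X.M.κ (⟨t, t.2.1⟩ * (X.bC ^ j)⁻¹) = 1 := by
      rw [map_mul, map_inv, map_pow, hκt, mul_inv_cancel]
    exact (X.M.κ_ker _).1 h1
  · exact Subgroup.mul_mem _ t.2.2
      (Subgroup.inv_mem _ (Subgroup.pow_mem _ (Subgroup.mem_centralizer_singleton_iff.2 rfl) j))

theorem θ_of_mem_Q {t : X.T} (h : (t : G) ∈ X.Q) : X.θ t = 1 := by
  rw [X.θ_eq (η := 1) (by rw [(X.M.κ_ker ⟨t, t.2.1⟩).2 h]; rfl), map_one]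

theorem θ_b {t : X.T} (h : (t : G) = X.b) : X.θ t = 1 := by
  rw [X.θ_eq (η := ⟨g7, g7_mem⟩) (by
    rw [show (⟨(t : G), t.2.1⟩ : Subgroup.centralizer ({X.z} : Set G)) = ⟨X.b, X.hbz⟩ from Subtype.ext h,
      X.hκ])]
  exact slHom_eq_one_iff.2 fun n hn => (g7_R (by omega : n < 64)).symm ▸ cg_refl _

theorem θ_of_centralizes {t : X.T}
    (h : ∀ q ∈ X.Q ⊓ Subgroup.centralizer ({X.b} : Set G), (t : G) * q = q * t) : X.θ t = 1 := by
  obtain ⟨η, hη⟩ := X.exists_eta t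
  rw [X.θ_eq hη]
  refine slHom_eq_one_iff.2 fun n hn => ?_
  have h1 := X.M.rel_equiv (η : Co0) ⟨t, t.2.1⟩ hη (X.rel_lift n)
  rw [h _ (X.mem_R0_iff.2 ⟨n, by omega, X.rel_lift n⟩), mul_inv_cancel_right] at h1
  exact (X.M.rel_cg h1 (X.rel_lift n)).2 (Or.inl rfl)

theorem fusion [Finite G] {x : G} (hx : x ∈ X.Q ⊓ Subgroup.centralizer ({X.b} : Set G))
    (hc : IsConj X.z x) (hne : x ≠ X.z) :
    ∃ n : G, n * X.b = X.b * n ∧ n * X.z * n⁻¹ = x := by
  have D := X.M.D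
  obtain ⟨hxQ, hxb⟩ := hx
  have hxb := Subgroup.mem_centralizer_singleton_iff.1 hxb
  obtain ⟨g, rfl⟩ := isConj_iff.1 hc
  have hzP := D.mem_conj hxQ hne (by rw [X.M.card_Q]; norm_num)
  set x := g * X.z * g⁻¹ with hxdef
  set y := g⁻¹ * X.z * g with hydef
  have hyQ : y ∈ X.Q := mem_conjS.1 hzP
  have hyc : IsConj X.z y := isConj_iff.2 ⟨g⁻¹, by rw [hydef]; group⟩
  have hyne : y ≠ X.z := fun e => hne (by
    calc x = g * (g⁻¹ * X.z * g) * g⁻¹ := by rw [← hydef, e]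
      _ = X.z := by group)
  obtain ⟨v, hv, hvn⟩ := X.M.rep64 hxQ hc hne
  obtain ⟨w, hw, hwn⟩ := X.M.rep64 hyQ hyc hyne
  obtain ⟨h, hh, hhe⟩ := X.M.conj_of_norm hv hw (Or.inr (Or.inr hvn)) (hwn.trans hvn.symm)
  have hhz : h * X.z * h⁻¹ = X.z := mul_inv_eq_iff_eq_mul.2 (Subgroup.mem_centralizer_singleton_iff.1 hh)
  have hnz : (g * h) * X.z * (g * h)⁻¹ = x := by
    calc (g * h) * X.z * (g * h)⁻¹ = g * (h * X.z * h⁻¹) * g⁻¹ := by group
      _ = x := by rw [hhz]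
  have hnx : (g * h) * x * (g * h)⁻¹ = X.z := by
    calc (g * h) * x * (g * h)⁻¹ = g * (h * x * h⁻¹) * g⁻¹ := by group
      _ = g * y * g⁻¹ := by rw [hhe]
      _ = X.z := by rw [hydef]; group
  obtain ⟨hx1, hxz⟩ := X.M.ne_of_rel hv (Or.inr (Or.inr hvn))
  obtain ⟨q, hq, hqx⟩ := D.exists_conj_eq hxQ hx1 hne
  have hqz : q * X.z * q⁻¹ = X.z := mul_inv_eq_iff_eq_mul.2 (D.z_central q hq)
  set A := Subgroup.centralizer ({X.z, x} : Set G) with hA
  have hxzc : x * X.z = X.z * x := D.z_central x hxQ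
  have memA : ∀ a, a ∈ A ↔ a * X.z * a⁻¹ = X.z ∧ a * x * a⁻¹ = x := fun a => by
    rw [hA, centralizer_pair, Subgroup.mem_inf, Subgroup.mem_centralizer_singleton_iff,
      Subgroup.mem_centralizer_singleton_iff, mul_inv_eq_iff_eq_mul, mul_inv_eq_iff_eq_mul]
  obtain ⟨M', hM'⟩ := exists_normal_form X.M hxQ hc hne
  obtain ⟨-, h49⟩ := natCard_cent_pair M' hM'
  have hbA : X.b ∈ A := by
    rw [memA, mul_inv_eq_iff_eq_mul, mul_inv_eq_iff_eq_mul]; exact ⟨X.bz, hxb.symm⟩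
  -- an element acting as prescribed and normalising the subgroup
  have adjust : ∀ n : G, n * X.b * n⁻¹ ∈ A → ∃ c ∈ A, ∃ j : ℤ, (c * n) * X.b * (c * n)⁻¹ = X.b ^ j := by
    intro n hn
    obtain ⟨c, hc', hmem⟩ := conj_mem_zpowers A h49 hn hbA
      (by rw [show n * X.b * n⁻¹ = MulAut.conj n X.b from rfl, MulEquiv.orderOf_eq, X.hb7]) X.hb7
    obtain ⟨j, hj⟩ := Subgroup.mem_zpowers_iff.1 hmem
    exact ⟨c, hc', j, by rw [hj]; group⟩
  have hb1 : X.b * X.z * X.b⁻¹ = X.z := ((memA _).1 hbA).1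
  have hb2 : X.b * x * X.b⁻¹ = x := ((memA _).1 hbA).2
  have img : ∀ n a : G, X.b * a * X.b⁻¹ = a →
      (n * X.b * n⁻¹) * (n * a * n⁻¹) * (n * X.b * n⁻¹)⁻¹ = n * a * n⁻¹ := fun n a ha => by
    calc (n * X.b * n⁻¹) * (n * a * n⁻¹) * (n * X.b * n⁻¹)⁻¹ = n * (X.b * a * X.b⁻¹) * n⁻¹ := by group
      _ = _ := by rw [ha]
  obtain ⟨c, hcA, j, hj⟩ := adjust (g * h) (by
    refine (memA _).2 ⟨?_, ?_⟩
    · have := img (g * h) x hb2; rwa [hnx] at this
    · have := img (g * h) X.z hb1; rwa [hnz] at this)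
  obtain ⟨d, hdA, i, hi⟩ := adjust q (by
    refine (memA _).2 ⟨?_, ?_⟩
    · have := img q X.z hb1; rwa [hqz] at this
    · have h1 := img q X.z hb1
      have h2 := img q x hb2
      rw [hqz] at h1
      rw [hqx] at h2
      calc q * X.b * q⁻¹ * x * (q * X.b * q⁻¹)⁻¹
          = (q * X.b * q⁻¹ * (x * X.z) * (q * X.b * q⁻¹)⁻¹) * (q * X.b * q⁻¹ * X.z * (q * X.b * q⁻¹)⁻¹)⁻¹ := by group
        _ = x := by rw [h1, h2]; group)
  obtain ⟨hcz, hcx⟩ := (memA c).1 hcA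
  obtain ⟨hdz, hdx⟩ := (memA d).1 hdA
  set n := c * (g * h) with hn
  set m := d * q with hm
  have n1 : n * X.z * n⁻¹ = x := by
    calc n * X.z * n⁻¹ = c * ((g * h) * X.z * (g * h)⁻¹) * c⁻¹ := by rw [hn]; group
      _ = x := by rw [hnz, hcx]
  have n2 : n * x * n⁻¹ = X.z := by
    calc n * x * n⁻¹ = c * ((g * h) * x * (g * h)⁻¹) * c⁻¹ := by rw [hn]; group
      _ = X.z := by rw [hnx, hcz]
  have m1 : m * X.z * m⁻¹ = X.z := by
    calc m * X.z * m⁻¹ = d * (q * X.z * q⁻¹) * d⁻¹ := by rw [hm]; group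
      _ = X.z := by rw [hqz, hdz]
  have m2 : m * x * m⁻¹ = x * X.z := by
    calc m * x * m⁻¹ = d * (q * x * q⁻¹) * d⁻¹ := by rw [hm]; group
      _ = (d * x * d⁻¹) * (d * X.z * d⁻¹) := by rw [hqx]; group
      _ = x * X.z := by rw [hdx, hdz]
  set k := n * m * n⁻¹ * m⁻¹ with hk
  have hmul : ∀ a u v : G, a * (u * v) * a⁻¹ = (a * u * a⁻¹) * (a * v * a⁻¹) := fun a u v => by group
  have hinv : ∀ a u v : G, a * u * a⁻¹ = v → a⁻¹ * v * a = u := fun a u v e => by rw [← e]; group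
  have n3 : n * (x * X.z) * n⁻¹ = x * X.z := by rw [hmul, n2, n1, hxzc]
  have m3 : m * (x * X.z) * m⁻¹ = x := by rw [hmul, m2, m1, mul_assoc, D.z_sq, mul_one]
  have hcomp : ∀ u u1 u2 u3 u4 : G, m⁻¹ * u * m = u1 → n⁻¹ * u1 * n = u2 → m * u2 * m⁻¹ = u3 →
      n * u3 * n⁻¹ = u4 → k * u * k⁻¹ = u4 := fun u u1 u2 u3 u4 e1 e2 e3 e4 => by
    rw [← e4, ← e3, ← e2, ← e1, hk]; group
  have k1 : k * X.z * k⁻¹ = x * X.z :=
    hcomp _ _ _ _ _ (hinv _ _ _ m1) (hinv _ _ _ n2) m2 n3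
  refine ⟨k * k, ?_, ?_⟩
  · have hpow : ∀ (a : G) (i : ℤ), a * X.b * a⁻¹ = X.b ^ i → ∀ l : ℤ,
        a * X.b ^ l * a⁻¹ = X.b ^ (i * l) := fun a i e l => by rw [← conj_zpow, e, zpow_mul]
    have hab : (n * m) * X.b * (n * m)⁻¹ = (m * n) * X.b * (m * n)⁻¹ := by
      calc (n * m) * X.b * (n * m)⁻¹ = n * (m * X.b * m⁻¹) * n⁻¹ := by group
        _ = X.b ^ (j * i) := by rw [hi, hpow n j hj]
        _ = m * (n * X.b * n⁻¹) * m⁻¹ := by rw [hj, hpow m i hi, mul_comm]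
        _ = _ := by group
    have hkb : Commute k X.b := by
      have : k * ((m * n) * X.b * (m * n)⁻¹) * k⁻¹ = (n * m) * X.b * (n * m)⁻¹ := by rw [hk]; group
      rw [hab] at this
      obtain ⟨l, hl⟩ : ∃ l : ℤ, (m * n) * X.b * (m * n)⁻¹ = X.b ^ l := ⟨i * j, by
        calc (m * n) * X.b * (m * n)⁻¹ = m * (n * X.b * n⁻¹) * m⁻¹ := by group
          _ = _ := by rw [hj, hpow m i hi]⟩
      have hl' : Commute k (X.b ^ l) := by
        rw [← hl]; exact mul_inv_eq_iff_eq_mul.1 this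
      have hgen : X.b ∈ Subgroup.zpowers (X.b ^ l) := by
        haveI : Fact (Nat.Prime 7) := ⟨by norm_num⟩
        have hne' : X.b ^ l ≠ 1 := fun e => by
          rw [e, conj_eq_one_iff] at hl
          have := X.hb7
          rw [hl, orderOf_one] at this
          norm_num at this
        have hcard : Nat.card (Subgroup.zpowers X.b) ≤ Nat.card (Subgroup.zpowers (X.b ^ l)) := by
          rw [Nat.card_zpowers, Nat.card_zpowers, X.hb7, orderOf_eq_prime (by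
            rw [← zpow_natCast, ← zpow_mul, mul_comm, zpow_mul, zpow_natCast, X.b_seven, one_zpow]) hne']
        haveI : Finite (Subgroup.zpowers X.b) := inferInstance
        rw [Subgroup.eq_of_le_of_card_ge (Subgroup.zpowers_le.2 (zpow_mem (Subgroup.mem_zpowers X.b) l)) hcard]
        exact Subgroup.mem_zpowers _
      obtain ⟨r, hr⟩ := Subgroup.mem_zpowers_iff.1 hgen
      rw [← hr]
      exact hl'.zpow_right r
    exact (hkb.mul_left hkb).eq
  · calc k * k * X.z * (k * k)⁻¹ = k * (k * X.z * k⁻¹) * k⁻¹ := by group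
      _ = (k * x * k⁻¹) * (k * X.z * k⁻¹) := by
        rw [show k * (k * X.z * k⁻¹) * k⁻¹ = k * (x * X.z) * k⁻¹ by rw [k1], hmul]
      _ = x := by
        rw [k1, hcomp x (x * X.z) (x * X.z) x X.z (hinv _ _ _ m3) (hinv _ _ _ n3) m3 n2, ← mul_assoc,
          ← hxzc, mul_assoc, D.z_sq, mul_one]

end Ctx

end Cfsg.Agent.MonsterSeven
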