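import Cfsg.Agent.Lib.MonsterSeven.FixedChecks

/-!
# Kernel checks of the matrices centralising or inverting the element of order seven
-/

set_option autoImplicit false
set_option maxRecDepth 100000
open Cfsg

namespace Cfsg.Agent.MonsterSeven

open Leech GolayClasses

/-- The images of the generators, with the masks evaluated first. -/
def imgsF (P : List ℤ) : List (List ℤ) → List (List ℤ) → Bool
  | g :: gs, y :: ys => (dotL P g == 8 * pack y) && smallL y && smallL g && inLatF y && imgsF P gs ys
  | [], _ => true
  | _ :: _, [] => false

theorem imgsF_eq (P : List ℤ) : ∀ gs ys, imgsF P gs ys = imgsOK P gs ys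
  | g :: gs, y :: ys => by simp only [imgsF, imgsOK, inLatF_eq, imgsF_eq P gs ys]
  | [], _ => rfl
  | _ :: _, [] => rfl

/-- The list of a matrix. -/
def matL (i : ℕ) : List (List ℤ) := (matRows i).map row

/-- The list of a transposed matrix. -/
def matT (i : ℕ) : List (List ℤ) := (matCols i).map row

/-- The exponent of a matrix. -/
def matExp (i : ℕ) : ℕ := if i < 7 then 1 else 6

/-- The class to which a matrix moves the first one. -/
def matTgt (i : ℕ) : ℕ := if i < 7 then i + 1 else 8 * (i - 6)

/-- The check of a matrix. -/
def matChk (i : ℕ) : Bool :=
  decide ((matL i).length = 24) && decide ((matT i).length = 24) && (matL i).all smallL &&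
    (matT i).all smallL && (matPackL i == packCols (matL i)) && (matPackT i == packCols (matT i)) &&
    ((matT i).map pack == matPackL i) && orthOK (matL i) (matPackL i) &&
    orthOK (matT i) (matPackT i) && imgsF (matPackL i) genLists ((matImgL i).map row) &&
    imgsF (matPackT i) genLists ((matImgT i).map row)

/-- A matrix conjugates the element to a power. -/
def twistChk (i : ℕ) : Bool :=
  (List.range 24).all fun a => (List.range 24).all fun b =>
    ((matL i).getD (zIter (matExp i) a) []).getD (Golay.fn sevenGen b) 0 ==
      ((matL i).getD a []).getD b 0

/-- The class of the image of a basis vector. -/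
def imgTo (i b : ℕ) : ℕ :=
  if i < 7 then ([(movTr.getD i (0, 0, 0)).1, (movTr.getD i (0, 0, 0)).2.1,
    (movTr.getD i (0, 0, 0)).2.2]).getD b 0
  else matTgt i

/-- The images of the basis vectors. -/
def imgChk (i : ℕ) : Bool :=
  (List.range (if i < 7 then 3 else 1)).all fun b =>
    (dotL (matPackL i) (repL (2 ^ b)) == 8 * pack (row ((matImgR i).getD b 0))) &&
      smallL (repL (2 ^ b)) && smallL (row ((matImgR i).getD b 0)) &&
      inLatF (row ((matImgR i).getD b 0)) && decide (imgTo i b < 64) &&
      (imgTo i 0 == matTgt i) && cgL (row ((matImgR i).getD b 0)) (repL (imgTo i b))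

theorem imgChk_eq : ∀ i < 14, imgChk i = true := by decide +kernel

theorem twistChk_eq : ∀ i < 14, twistChk i = true := by decide +kernel

theorem matChk0 : matChk 0 = true := by decide +kernel

theorem matChk1 : matChk 1 = true := by decide +kernel

theorem matChk2 : matChk 2 = true := by decide +kernel

theorem matChk3 : matChk 3 = true := by decide +kernel

theorem matChk4 : matChk 4 = true := by decide +kernel

theorem matChk5 : matChk 5 = true := by decide +kernel

theorem matChk6 : matChk 6 = true := by decide +kernel

theorem matChk7 : matChk 7 = true := by decide +kernel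

theorem matChk8 : matChk 8 = true := by decide +kernel

theorem matChk9 : matChk 9 = true := by decide +kernel

theorem matChk10 : matChk 10 = true := by decide +kernel

theorem matChk11 : matChk 11 = true := by decide +kernel

theorem matChk12 : matChk 12 = true := by decide +kernel

theorem matChk13 : matChk 13 = true := by decide +kernel

theorem matChk_eq : ∀ i < 14, matChk i = true := by
  intro i hi
  interval_cases i
  exacts [matChk0, matChk1, matChk2, matChk3, matChk4, matChk5, matChk6, matChk7, matChk8, matChk9, matChk10, matChk11, matChk12, matChk13]

end Cfsg.Agent.MonsterSeven
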