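import Cfsg.Agent.Lib.MonsterSeven.Fixed
import Cfsg.Agent.Lib.MonsterSeven.MoveChecks

/-!
# Elements moving the first fixed class of norm 64 to each of the fourteen

* `mover i` : an element conjugating `g7` to `g7 ^ matExp i` with `R 1 ↦ R (matTgt i)`
-/

set_option autoImplicit false
set_option maxRecDepth 100000
open Cfsg
open scoped Matrix

namespace Cfsg.Agent.MonsterSeven

open Leech MonsterLattice GolayClasses

theorem matOK {i : ℕ} (hi : i < 14) :
    MatOK (toMat (matL i)) ∧ matPackL i = packCols (matL i) ∧ (matL i).length = 24 ∧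
      (matL i).all smallL = true := by
  refine matOK_of_lists (T := matT i) (P := matPackL i) (Q := matPackT i)
    (YL := (matImgL i).map row) (YT := (matImgT i).map row) ?_
  have h := matChk_eq i hi
  simp only [matChk, imgsF_eq] at h
  exact h

/-- The moving element. -/
noncomputable def mover (i : ℕ) : Co0 :=
  if h : i < 14 then matEl (toMat (matL i)) (matOK h).1 else 1

theorem idx_pow_sevenM (k : ℕ) (p : GolayPt) :
    Golay.idx ((sevenM ^ k : M24).1 p) = zIter k (Golay.idx p) := by
  rw [SubmonoidClass.coe_pow]; exact idx_zpow k p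

theorem mover_twist {i : ℕ} (hi : i < 14) : mover i * g7 = g7 ^ matExp i * mover i := by
  obtain ⟨hok, -, -, -⟩ := matOK hi
  have h := twistChk_eq i hi
  simp only [twistChk, List.all_eq_true, List.mem_range, beq_iff_eq] at h
  have hperm : ∀ p q : GolayPt,
      toMat (matL i) ((sevenM ^ matExp i : M24).1 p) (sevenM.1 q) = toMat (matL i) p q := fun p q => by
    show ((matL i).getD (Golay.idx ((sevenM ^ matExp i : M24).1 p)) []).getD
      (Golay.idx (sevenM.1 q)) 0 = ((matL i).getD (Golay.idx p) []).getD (Golay.idx q) 0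
    rw [idx_pow_sevenM, show Golay.idx (sevenM.1 q) = Golay.fn sevenGen (Golay.idx q) from
      Golay.idx_toPerm valid_sevenGen q]
    exact h _ (Golay.idx_lt p) _ (Golay.idx_lt q)
  refine co0_ext fun v => ?_
  rw [mul_smul, mul_smul, mover, dif_pos hi]
  refine matEl_smul _ hok fun p => ?_
  rw [show g7 ^ matExp i = permHom (sevenM ^ matExp i) from (map_pow permHom _ _).symm, vec_perm]
  have he : ∀ q, (toMat (matL i) *ᵥ (v : GolayPt → ℤ)) q =
      8 * ((matEl (toMat (matL i)) hok • v : leechLattice) : GolayPt → ℤ) q := fun q =>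
    congrFun (matImage_spec hok.2.2.1 v) q
  rw [← he]
  simp only [Matrix.mulVec, dotProduct, g7, vec_perm]
  refine (Fintype.sum_equiv sevenM.1 _ _ fun q => ?_).symm
  rw [← hperm, Equiv.apply_symm_apply, Equiv.symm_apply_apply]

theorem mover_img {i b : ℕ} (hi : i < 14) (hb : b < if i < 7 then 3 else 1) :
    imgTo i b < 64 ∧ imgTo i 0 = matTgt i ∧ Cg (mover i • R (2 ^ b)) (R (imgTo i b)) := by
  obtain ⟨hok, hP, hL, hLb⟩ := matOK hi
  have h := imgChk_eq i hi
  simp only [imgChk, List.all_eq_true, List.mem_range, Bool.and_eq_true, beq_iff_eq,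
    decide_eq_true_eq, inLatF_eq] at h
  obtain ⟨⟨⟨⟨⟨⟨he, hx⟩, hy⟩, hin⟩, hto⟩, h0⟩, hc⟩ := h b hb
  refine ⟨hto, h0, ?_⟩
  have hb64 : 2 ^ b < 64 := Nat.pow_lt_pow_right (by norm_num) (n := 6)
    (lt_of_lt_of_le hb (by split_ifs <;> norm_num))
  have e : mover i • R (2 ^ b) = vecL (row ((matImgR i).getD b 0)) := by
    rw [mover, dif_pos hi]
    exact matEl_smul_of_pack hok (fun r hr => smallL_spec (List.all_eq_true.1 hLb r hr)) hL
      (smallL_spec hx) (smallL_spec hy) (hP ▸ he) (coe_R hb64) (coe_vecL hin)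
  rw [e]
  exact cg_of_cgL (coe_vecL hin) (coe_R hto) hc

theorem mover_R_one {i : ℕ} (hi : i < 14) : Cg (mover i • R 1) (R (matTgt i)) := by
  obtain ⟨-, h0, h⟩ := mover_img hi (b := 0) (by split_ifs <;> norm_num)
  rwa [h0] at h

end Cfsg.Agent.MonsterSeven
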