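import Cfsg.Agent.Lib.MonsterSeven.Held
import Cfsg.Agent.Lib.MonsterSeven.Inv
import Cfsg.Agent.Lib.Components.GenFitting

/-!
# The normaliser of the element of order seven in a group of Monster type

* `Ctx.exists_inverting` : an involution inverts the element
* `Ctx.relIndex_eq` : the normaliser induces all six automorphisms
* `Ctx.centralizer_layer_le` : the layer of the centraliser has centraliser in the cyclic group
* `Ctx.not_inner` : an inverting involution induces no inner automorphism of the layer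
-/

set_option autoImplicit false
set_option maxRecDepth 100000
open Cfsg
open scoped commutatorElement

namespace Cfsg.Agent.MonsterSeven

open Leech MonsterLattice Monster LargeExtraspecial

namespace Ctx

variable {G : Type*} [Group G] [Finite G] (X : Ctx G)

theorem not_dvd_preimage : ¬ 49 ∣
    Nat.card ((Subgroup.zpowers (QuotientGroup.mk g7 : Spor.Co1)).comap X.M.κ) := by
  set P := (Subgroup.zpowers (QuotientGroup.mk g7 : Spor.Co1)).comap X.M.κ
  have h1 := natCard_map_mul X.M.κ P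
  rw [Subgroup.map_comap_eq_self_of_surjective X.M.κ_surj, Nat.card_zpowers, mk_g7_order] at h1
  haveI : Fact (Nat.Prime 2) := ⟨Nat.prime_two⟩
  obtain ⟨n, hn⟩ := IsPGroup.iff_card.mp (((LargeExtraspecial.isPGroup_of_extraspecial X.M.extra).comap_subtype
    (K := Subgroup.centralizer ({X.z} : Set G))).to_le
    (le_trans inf_le_right fun x hx => (X.M.κ_ker x).1 hx : (P ⊓ X.M.κ.ker) ≤ _))
  rw [hn] at h1
  rw [← h1]
  intro h49
  have := (Nat.Coprime.pow_right n (by norm_num : Nat.Coprime 49 2)).dvd_of_dvd_mul_right h49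
  norm_num at this

theorem κ_bC : X.M.κ X.bC = QuotientGroup.mk g7 := X.hκ

theorem orderOf_bC : orderOf X.bC = 7 := by rw [bC, Subgroup.orderOf_mk, X.hb7]

/-- An element inducing a power map on `⟨g7⟩` lifts to one inducing it on `⟨b⟩`. -/
theorem exists_power (η : Co0) (k : ℕ) (hk : k % 7 ≠ 0) (hη : η * g7 = g7 ^ k * η) :
    ∃ h : Subgroup.centralizer ({X.z} : Set G), (h : G) * X.b * (h : G)⁻¹ = X.b ^ k := by
  obtain ⟨h, hh⟩ := X.M.exists_lift η
  set P := (Subgroup.zpowers (QuotientGroup.mk g7 : Spor.Co1)).comap X.M.κ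
  have hconj : X.M.κ (h * X.bC * h⁻¹) = (QuotientGroup.mk g7 : Spor.Co1) ^ k := by
    rw [map_mul, map_mul, map_inv, ← hh, X.κ_bC, ← QuotientGroup.mk_inv,
      ← QuotientGroup.mk_mul, ← QuotientGroup.mk_mul, hη, mul_inv_cancel_right, QuotientGroup.mk_pow]
  obtain ⟨m, hm, hmem⟩ := conj_mem_zpowers P X.not_dvd_preimage
    (show h * X.bC * h⁻¹ ∈ P from Subgroup.mem_comap.2 (hconj ▸ pow_mem (Subgroup.mem_zpowers _) k))
    (show X.bC ∈ P from Subgroup.mem_comap.2 (by rw [X.κ_bC]; exact Subgroup.mem_zpowers _))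
    (by rw [show h * X.bC * h⁻¹ = MulAut.conj h X.bC from rfl, MulEquiv.orderOf_eq, X.orderOf_bC])
    X.orderOf_bC
  obtain ⟨i, hi⟩ := Subgroup.mem_zpowers_iff.1 (Subgroup.mem_comap.1 hm)
  obtain ⟨j, hj⟩ := Subgroup.mem_zpowers_iff.1 hmem
  refine ⟨m * h, ?_⟩
  have hjk : (QuotientGroup.mk g7 : Spor.Co1) ^ j = (QuotientGroup.mk g7 : Spor.Co1) ^ (k : ℤ) := by
    rw [zpow_natCast, ← X.κ_bC, ← map_zpow, hj, map_mul, map_mul, map_inv, hconj, ← hi, X.κ_bC]
    group
  have hmod := zpow_eq_zpow_iff_modEq.1 hjk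
  rw [mk_g7_order] at hmod
  have e : m * h * X.bC * (m * h)⁻¹ = X.bC ^ (k : ℤ) := by
    calc m * h * X.bC * (m * h)⁻¹ = m * (h * X.bC * h⁻¹) * m⁻¹ := by group
      _ = X.bC ^ (k : ℤ) := by rw [← hj, zpow_eq_zpow_iff_modEq, X.orderOf_bC]; exact hmod
  rw [zpow_natCast] at e
  simpa [bC] using congrArg Subtype.val e

theorem exists_inverting : ∃ t : G, orderOf t = 2 ∧ t * X.b * t⁻¹ = X.b⁻¹ := by
  obtain ⟨a, ha, hκa⟩ := exists_involution_lift X.M
  have ha2 : a * a = 1 := Subtype.ext ha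
  set gb := (QuotientGroup.mk g7 : Spor.Co1) with hgb
  set ab := (QuotientGroup.mk invEl : Spor.Co1) with hab
  have hgb7 : gb ^ 7 = 1 := by rw [← mk_g7_order, pow_orderOf_eq_one]
  have hab2 : ab * ab = 1 := by rw [← hκa, ← map_mul, ha2, map_one]
  have htw : ab * gb = gb ^ 6 * ab := by
    rw [hab, hgb, ← QuotientGroup.mk_pow, ← QuotientGroup.mk_mul, ← QuotientGroup.mk_mul, invEl_twist]
  set w := a * (X.bC * a * X.bC⁻¹) with hw
  have hκw : X.M.κ w = gb ^ 5 := by
    rw [hw, map_mul, map_mul, map_mul, map_inv, hκa, X.κ_bC]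
    calc ab * (gb * ab * gb⁻¹) = (ab * gb) * ab * gb⁻¹ := by group
      _ = gb ^ 6 * (ab * ab) * gb⁻¹ := by rw [htw]; group
      _ = gb ^ 5 := by rw [hab2]; group
  have haw : a * w * a⁻¹ = w⁻¹ := by
    have hai : a⁻¹ = a := inv_eq_of_mul_eq_one_right ha2
    rw [hw, mul_inv_rev, mul_inv_rev, mul_inv_rev, hai, inv_inv]
    calc a * (a * (X.bC * a * X.bC⁻¹)) * a = (a * a) * (X.bC * a * X.bC⁻¹) * a := by group
      _ = X.bC * (a * X.bC⁻¹) * a := by rw [ha2]; group
      _ = _ := by group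
  have hwQ : ((w ^ 7 : Subgroup.centralizer ({X.z} : Set G)) : G) ∈ X.Q :=
    (X.M.κ_ker _).1 (by rw [map_pow, hκw, ← pow_mul, mul_comm, pow_mul, hgb7, one_pow])
  obtain ⟨l, hl⟩ := LargeExtraspecial.isPGroup_of_extraspecial X.M.extra ⟨_, hwQ⟩
  set u := w ^ 2 ^ l with hu
  have hu7 : u ^ 7 = 1 := by
    rw [hu, ← pow_mul, mul_comm, pow_mul]
    exact Subtype.ext (by simpa using congrArg Subtype.val hl)
  have hu1 : u ≠ 1 := by
    intro e
    have h1 : gb ^ (5 * 2 ^ l) = 1 := by rw [pow_mul, ← hκw, ← map_pow, ← hu, e, map_one]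
    have h2 : 7 ∣ 5 * 2 ^ l := by
      have := orderOf_dvd_of_pow_eq_one h1
      rwa [hgb, mk_g7_order] at this
    rcases (Nat.prime_seven).dvd_mul.1 h2 with h | h
    · norm_num at h
    · exact absurd (Nat.prime_seven.dvd_of_dvd_pow h) (by norm_num)
  haveI : Fact (Nat.Prime 7) := ⟨by norm_num⟩
  set P := (Subgroup.zpowers gb).comap X.M.κ
  obtain ⟨m, -, hmem⟩ := conj_mem_zpowers P X.not_dvd_preimage
    (show u ∈ P from Subgroup.mem_comap.2 (by
      rw [hu, map_pow, hκw, ← pow_mul]; exact pow_mem (Subgroup.mem_zpowers _) _))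
    (show X.bC ∈ P from Subgroup.mem_comap.2 (by rw [X.κ_bC]; exact Subgroup.mem_zpowers _))
    (orderOf_eq_prime hu7 hu1) X.orderOf_bC
  obtain ⟨j, hj⟩ := Subgroup.mem_zpowers_iff.1 hmem
  have hau : a * u * a⁻¹ = u⁻¹ := by rw [hu, ← conj_pow, haw, inv_pow]
  set t := m * a * m⁻¹ with ht
  have htj : t * X.bC ^ j * t⁻¹ = (X.bC ^ j)⁻¹ := by
    rw [hj]
    calc t * (m * u * m⁻¹) * t⁻¹ = m * (a * u * a⁻¹) * m⁻¹ := by rw [ht]; group
      _ = (m * u * m⁻¹)⁻¹ := by rw [hau]; group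
  have hj7 : IsCoprime j 7 := by
    rw [isCoprime_comm, Prime.coprime_iff_not_dvd (Int.prime_iff_natAbs_prime.2 (by norm_num) : Prime (7 : ℤ))]
    intro hd
    obtain ⟨c, rfl⟩ := hd
    rw [zpow_mul, show X.bC ^ (7 : ℤ) = 1 by
      rw [show (7 : ℤ) = ((7 : ℕ) : ℤ) from rfl, zpow_natCast, ← X.orderOf_bC, pow_orderOf_eq_one],
      one_zpow] at hj
    exact hu1 (conj_eq_one_iff.1 hj.symm)
  obtain ⟨r, s', hrs⟩ := hj7
  have hb : X.bC = (X.bC ^ j) ^ r := by
    rw [← zpow_mul]
    have h7 : X.bC ^ (7 : ℤ) = 1 := by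
      rw [show (7 : ℤ) = ((7 : ℕ) : ℤ) from rfl, zpow_natCast, ← X.orderOf_bC, pow_orderOf_eq_one]
    have : X.bC ^ (r * j + s' * 7) = X.bC := by rw [hrs, zpow_one]
    rw [zpow_add, mul_comm s', zpow_mul X.bC 7, h7, one_zpow, mul_one] at this
    rw [mul_comm]; exact this.symm
  have htb : t * X.bC * t⁻¹ = X.bC⁻¹ := by
    rw [hb, ← conj_zpow, htj, inv_zpow]
  refine ⟨t, ?_, by simpa [bC] using congrArg Subtype.val htb⟩
  rw [Subgroup.orderOf_coe]
  haveI : Fact (Nat.Prime 2) := ⟨Nat.prime_two⟩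
  refine orderOf_eq_prime ?_ fun e => ?_
  · rw [pow_two, ht, conj_mul, ha2, mul_one, mul_inv_cancel]
  · rw [e, one_mul, inv_one, mul_one] at htb
    have h2 : X.bC ^ 2 = 1 := by
      rw [pow_two]; nth_rw 2 [htb]; exact mul_inv_cancel _
    have := orderOf_dvd_of_pow_eq_one h2
    rw [X.orderOf_bC] at this
    norm_num at this

theorem twist_two : ∃ η : Co0, η * g7 = g7 ^ 2 * η := by
  have h : (GolayClasses.sevenNorm.any fun d => GolayClasses.twists 2 d && Golay.isAut d) = true := by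
    decide +kernel
  simp only [List.any_eq_true, Bool.and_eq_true] at h
  obtain ⟨d, -, ht, hd⟩ := h
  obtain ⟨hM, he⟩ := GolayClasses.twists_sound hd ht
  refine ⟨permHom ⟨Golay.toPerm d, hM⟩, ?_⟩
  rw [g7, ← map_pow, ← map_mul, ← map_mul]
  congr 1
  exact Subtype.ext (by rw [Subgroup.coe_mul, Subgroup.coe_mul, SubmonoidClass.coe_pow]; exact he)

theorem relIndex_eq : (Subgroup.centralizer (Subgroup.zpowers X.b : Set G)).relIndex
    (Subgroup.normalizer (Subgroup.zpowers X.b : Set G)) = 6 := by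
  classical
  set B := Subgroup.zpowers X.b
  rw [Subgroup.relIndex, ← Subgroup.normalizerMonoidHom_ker, Subgroup.index_ker]
  set φ := B.normalizerMonoidHom
  haveI : Fintype B := Fintype.ofFinite _
  have hbB : X.b ∈ B := Subgroup.mem_zpowers _
  let bB : B := ⟨X.b, hbB⟩
  have hcard : Nat.card B = 7 := by rw [Nat.card_zpowers, X.hb7]
  refine le_antisymm ?_ ?_
  · have hne : ∀ α : φ.range, (α : MulAut B) bB ≠ 1 := fun α e => by
      have h1 : bB = 1 := (α : MulAut B).injective (e.trans (map_one _).symm)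
      have h7 := X.hb7
      rw [show X.b = 1 from congrArg Subtype.val h1, orderOf_one] at h7
      norm_num at h7
    have hinj : Function.Injective (fun α : φ.range => (⟨(α : MulAut B) bB, hne α⟩ : {x : B // x ≠ 1})) := by
      intro α β h
      refine Subtype.ext (MulEquiv.ext fun x => ?_)
      obtain ⟨i, hi⟩ := Subgroup.mem_zpowers_iff.1 x.2
      rw [show x = bB ^ i from Subtype.ext (by rw [SubgroupClass.coe_zpow]; exact hi.symm), map_zpow, map_zpow,
        show (α : MulAut B) bB = (β : MulAut B) bB from congrArg Subtype.val h]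
    refine (Nat.card_le_card_of_injective _ hinj).trans (le_of_eq ?_)
    rw [Nat.card_eq_fintype_card, Fintype.card_subtype_compl, Fintype.card_subtype_eq,
      ← Nat.card_eq_fintype_card, hcard]
  · obtain ⟨t, -, ht⟩ := X.exists_inverting
    obtain ⟨η, hη⟩ := twist_two
    obtain ⟨h, hh⟩ := X.exists_power η 2 (by norm_num) hη
    set n := t * (h : G) with hn
    have hnb : n * X.b * n⁻¹ = X.b ^ 5 := by
      calc n * X.b * n⁻¹ = t * ((h : G) * X.b * (h : G)⁻¹) * t⁻¹ := by rw [hn]; group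
        _ = (t * X.b * t⁻¹) ^ 2 := by rw [hh, conj_pow]
        _ = X.b ^ 5 * (X.b ^ 7)⁻¹ := by rw [ht]; group
        _ = X.b ^ 5 := by rw [X.b_seven, inv_one, mul_one]
    have hpow : ∀ i : ℕ, n ^ i * X.b * (n ^ i)⁻¹ = X.b ^ 5 ^ i := fun i => by
      induction i with
      | zero => simp
      | succ i ih =>
        calc n ^ (i + 1) * X.b * (n ^ (i + 1))⁻¹ = n * (n ^ i * X.b * (n ^ i)⁻¹) * n⁻¹ := by
              rw [pow_succ']; group
          _ = X.b ^ 5 ^ (i + 1) := by rw [ih, ← conj_pow, hnb, ← pow_mul, pow_succ']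
    have hnN : n ∈ Subgroup.normalizer (B : Set G) := by
      refine Subgroup.mem_normalizer_fintype fun x hx => ?_
      obtain ⟨i, rfl⟩ := Subgroup.mem_zpowers_iff.1 hx
      rw [← conj_zpow, hnb]
      exact zpow_mem (pow_mem hbB 5) i
    have hinj : Function.Injective (fun i : Fin 6 =>
        (⟨φ (⟨n, hnN⟩ ^ (i : ℕ)), ⟨_, rfl⟩⟩ : φ.range)) := by
      intro i j hij
      have e := congrArg (fun α : φ.range => (((α : MulAut B) bB : B) : G)) hij
      change ((⟨n, hnN⟩ ^ (i : ℕ) : Subgroup.normalizer (B : Set G)) : G) * X.b *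
          ((⟨n, hnN⟩ ^ (i : ℕ) : Subgroup.normalizer (B : Set G)) : G)⁻¹ =
        ((⟨n, hnN⟩ ^ (j : ℕ) : Subgroup.normalizer (B : Set G)) : G) * X.b *
          ((⟨n, hnN⟩ ^ (j : ℕ) : Subgroup.normalizer (B : Set G)) : G)⁻¹ at e
      rw [SubmonoidClass.coe_pow, SubmonoidClass.coe_pow, hpow, hpow, pow_eq_pow_iff_modEq, X.hb7] at e
      have key : ∀ i j : Fin 6, 5 ^ (i : ℕ) ≡ 5 ^ (j : ℕ) [MOD 7] → i = j := by decide
      exact key i j e
    exact (Nat.card_fin 6).ge.trans (Nat.card_le_card_of_injective _ hinj)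

/-- A normal nilpotent subgroup of the centraliser lies in the cyclic group. -/
theorem fitting_le (hsne : X.s ≠ X.z) (hsc : IsConj X.z X.s) :
    ∀ x ∈ Cfsg.fittingSubgroup (Subgroup.centralizer (Subgroup.zpowers X.b : Set G)),
      (x : G) ∈ Subgroup.zpowers X.b := by
  classical
  haveI : Fact (Nat.Prime 2) := ⟨Nat.prime_two⟩
  set B := Subgroup.zpowers X.b
  set K := Subgroup.centralizer (B : Set G)
  have D := X.M.D
  have memK : ∀ c : G, c ∈ K ↔ c * X.b = X.b * c := by
    intro c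
    refine ⟨fun h => (Subgroup.mem_centralizer_iff.1 h _ (Subgroup.mem_zpowers _)).symm, fun h => ?_⟩
    refine Subgroup.mem_centralizer_iff.2 fun y hy => ?_
    obtain ⟨i, rfl⟩ := Subgroup.mem_zpowers_iff.1 hy
    exact ((show Commute c X.b from h).zpow_right i).eq.symm
  haveI hBn : (B.subgroupOf K).Normal := ⟨fun x hx g => by
    rw [Subgroup.mem_subgroupOf] at hx ⊢
    show (g : G) * x * (g : G)⁻¹ ∈ B
    rw [← Subgroup.mem_centralizer_iff.1 g.2 _ hx, mul_inv_cancel_right]
    exact hx⟩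
  let π : K →* K ⧸ B.subgroupOf K := QuotientGroup.mk' _
  have hπk : ∀ c : K, π c = 1 ↔ (c : G) ∈ B := fun c => by
    rw [QuotientGroup.mk'_apply, QuotientGroup.eq_one_iff, Subgroup.mem_subgroupOf]
  have hzK : X.z ∈ K := (memK _).2 X.z_comm
  let zK : K := ⟨X.z, hzK⟩
  set R0 := X.Q ⊓ Subgroup.centralizer ({X.b} : Set G) with hR0
  have hR0K : ∀ q ∈ R0, q ∈ K := fun q hq => (memK q).2 (Subgroup.mem_centralizer_singleton_iff.1 hq.2)
  -- an element whose image commutes with that of z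
  have liftT : ∀ c : K, π c * π zK = π zK * π c → (c : G) ∈ X.T := by
    intro c h
    refine ⟨Subgroup.mem_centralizer_singleton_iff.2 ?_,
      Subgroup.mem_centralizer_singleton_iff.2 ((memK _).1 c.2)⟩
    have h1 : π (c * zK * c⁻¹ * zK⁻¹) = 1 := by
      rw [map_mul, map_mul, map_mul, map_inv, map_inv, h]; group
    have hr : (c : G) * X.z * (c : G)⁻¹ * X.z⁻¹ ∈ B := (hπk _).1 h1
    obtain ⟨i, hi⟩ := Subgroup.mem_zpowers_iff.1 hr
    have hiz : Commute (X.b ^ i) X.z := (show Commute X.b X.z from X.bz).zpow_left i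
    have e : (c : G) * X.z * (c : G)⁻¹ = X.b ^ i * X.z := by rw [hi]; group
    have h2 : (X.b ^ i * X.z) * (X.b ^ i * X.z) = 1 := by
      rw [← e, conj_mul, D.z_sq, mul_one, mul_inv_cancel]
    have h3 : X.b ^ i * X.b ^ i = 1 := by
      rw [hiz.symm.mul_mul_mul_comm, D.z_sq, mul_one] at h2
      exact h2
    rw [X.eq_one_of_sq (zpow_mem (Subgroup.mem_zpowers _) i) h3, one_mul] at e
    exact mul_inv_eq_iff_eq_mul.1 e
  have hR0norm : ∀ c ∈ X.T, ∀ q ∈ R0, c * q * c⁻¹ * q⁻¹ ∈ R0 := fun c hc q hq =>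
    ⟨Subgroup.mul_mem _ (D.norm c (Subgroup.mem_centralizer_singleton_iff.1 hc.1) q hq.1)
        (Subgroup.inv_mem _ hq.1),
      Subgroup.mul_mem _ (Subgroup.mul_mem _ (Subgroup.mul_mem _ hc.2 hq.2)
        (Subgroup.inv_mem _ hc.2)) (Subgroup.inv_mem _ hq.2)⟩
  obtain ⟨cs, hcs, hcse⟩ := X.fusion
    ⟨X.M.rel_mem X.hs, Subgroup.mem_centralizer_singleton_iff.2 X.hbs.symm⟩ hsc hsne
  let csK : K := ⟨cs, (memK _).2 hcs⟩
  have hsz : X.M.rel (R 1) (X.s * X.z) := X.M.rel_z X.hs
  obtain ⟨hszc, hszne⟩ := X.M.conj64 hsz ((norm_R_eq (by norm_num) (by norm_num)).2 (by norm_num))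
  obtain ⟨cx, hcx, hcxe⟩ := X.fusion (X.mem_R0_iff.2 ⟨1, by norm_num, hsz⟩) hszc hszne
  let cxK : K := ⟨cx, (memK _).2 hcx⟩
  -- abelian normal subgroups of the quotient
  have abel : ∀ A : Subgroup (K ⧸ B.subgroupOf K), A.Normal →
      (∀ a ∈ A, ∀ a' ∈ A, a * a' = a' * a) → A = ⊥ := by
    intro A hA hcomm
    have h2 : ∀ a ∈ A, a * a = 1 → a = 1 := by
      intro a ha haa
      by_contra hne
      let A1 : Subgroup (K ⧸ B.subgroupOf K) :=
        { carrier := {a | a ∈ A ∧ a * a = 1}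
          one_mem' := ⟨one_mem _, one_mul 1⟩
          mul_mem' := fun {x y} hx hy => ⟨mul_mem hx.1 hy.1, by
            rw [(show Commute y x from hcomm y hy.1 x hx.1).mul_mul_mul_comm, hx.2, hy.2, one_mul]⟩
          inv_mem' := fun {x} hx => ⟨inv_mem hx.1, by rw [← mul_inv_rev, hx.2, inv_one]⟩ }
      have hA1n : ∀ h, ∀ x ∈ A1, h * x * h⁻¹ ∈ A1 := fun h x hx =>
        ⟨hA.conj_mem x hx.1 h, by rw [conj_mul, hx.2]; group⟩
      have hzz : π zK * π zK = 1 := by
        rw [← map_mul, show zK * zK = 1 from Subtype.ext D.z_sq, map_one]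
      have hzi : (π zK)⁻¹ = π zK := inv_eq_of_mul_eq_one_right hzz
      -- a fixed element
      obtain ⟨a', ha', ha'1, ha'z⟩ : ∃ a' ∈ A1, a' ≠ 1 ∧ a' * π zK = π zK * a' := by
        have hmA : π zK * a * π zK ∈ A1 := by
          have := hA1n (π zK) a ⟨ha, haa⟩; rwa [hzi] at this
        by_cases hc : a * (π zK * a * π zK) = 1
        · refine ⟨a, ⟨ha, haa⟩, hne, ?_⟩
          have e : π zK * a * π zK = a := by
            calc π zK * a * π zK = (a * a) * (π zK * a * π zK) := by rw [haa, one_mul]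
              _ = a := by rw [mul_assoc, hc, mul_one]
          calc a * π zK = π zK * a * π zK * π zK := by rw [e]
            _ = π zK * a := by rw [mul_assoc, hzz, mul_one]
        · refine ⟨_, mul_mem (⟨ha, haa⟩ : a ∈ A1) hmA, hc, ?_⟩
          have hswap : π zK * a * π zK * a = a * (π zK * a * π zK) :=
            (hcomm a ha _ hmA.1).symm
          calc a * (π zK * a * π zK) * π zK = a * (π zK * a) := by rw [mul_assoc, mul_assoc (π zK * a), hzz, mul_one]
            _ = π zK * (π zK * a * π zK * a) := by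
              calc a * (π zK * a) = (π zK * π zK) * a * (π zK * a) := by rw [hzz, one_mul]
                _ = _ := by group
            _ = π zK * (a * (π zK * a * π zK)) := by rw [hswap]
      obtain ⟨c, rfl⟩ := QuotientGroup.mk'_surjective _ a'
      have hcT := liftT c ha'z
      let T1 : Subgroup X.T := A1.comap (π.comp (Subgroup.inclusion fun t (ht : t ∈ X.T) =>
        (memK t).2 (Subgroup.mem_centralizer_singleton_iff.1 ht.2)))
      haveI : T1.Normal := ⟨fun x hx g => by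
        rw [Subgroup.mem_comap, map_mul, map_mul, map_inv]; exact hA1n _ _ hx⟩
      haveI : (T1.map X.θ).Normal := Subgroup.Normal.map inferInstance _ X.θ_surjective
      have hT2 : IsPGroup 2 (T1.map X.θ) := by
        rintro ⟨_, x, hx, rfl⟩
        refine ⟨1, Subtype.ext ?_⟩
        show X.θ x ^ 2 ^ 1 = 1
        rw [pow_one, pow_two, ← map_mul]
        have hb2 : ((x * x : X.T) : G) ∈ B := by
          have h1 : π (⟨(x : G), (memK _).2 (Subgroup.mem_centralizer_singleton_iff.1 x.2.2)⟩ *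
              ⟨(x : G), (memK _).2 (Subgroup.mem_centralizer_singleton_iff.1 x.2.2)⟩) = 1 := by
            rw [map_mul]; exact hx.2
          exact (hπk _).1 h1
        obtain ⟨i, hi⟩ := Subgroup.mem_zpowers_iff.1 hb2
        have hbT : X.b ∈ X.T := ⟨X.hbz, Subgroup.mem_centralizer_singleton_iff.2 rfl⟩
        rw [show x * x = (⟨X.b, hbT⟩ : X.T) ^ i from Subtype.ext (by rw [SubgroupClass.coe_zpow]; exact hi.symm),
          map_zpow, X.θ_b (t := ⟨X.b, hbT⟩) rfl, one_zpow]
      have hθ1 : X.θ ⟨c, hcT⟩ = 1 := by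
        have hm : X.θ ⟨c, hcT⟩ ∈ T1.map X.θ := ⟨⟨c, hcT⟩, ha', rfl⟩
        rw [two_group_bot hT2] at hm
        exact hm
      obtain ⟨q, hq, i, hcq⟩ := X.θ_ker hθ1
      have hπq : π c = π ⟨q, hR0K q hq⟩ := by
        refine inv_mul_eq_one.1 ?_
        rw [← map_inv, ← map_mul, hπk]
        show (c : G)⁻¹ * q ∈ B
        rw [show (c : G) = q * X.b ^ i from hcq, mul_inv_rev, mul_assoc, inv_mul_cancel, mul_one]
        exact inv_mem (pow_mem (Subgroup.mem_zpowers _) i)
      have hqA : π ⟨q, hR0K q hq⟩ ∈ A1 := hπq ▸ ha'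
      have hzA : π zK ∈ A := by
        by_cases hqz : q = X.z
        · rw [show zK = ⟨q, hR0K q hq⟩ from Subtype.ext hqz.symm]; exact hqA.1
        · obtain ⟨y, hy, hqy⟩ : ∃ y ∈ R0, ¬ y * q = q * y := by
            by_contra! hall
            rcases X.center_R0 hq hall with e | e
            · refine ha'1 (hπq.trans ?_)
              rw [show (⟨q, hR0K q hq⟩ : K) = 1 from Subtype.ext e, map_one]
            · exact hqz e
          have hc' : ⁅q, y⁆ = X.z := (D.comm q hq.1 y hy.1).resolve_left fun e =>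
            hqy (commutatorElement_eq_one_iff_mul_comm.mp e).symm
          rw [show zK = ⁅(⟨q, hR0K q hq⟩ : K), ⟨y, hR0K y hy⟩⁆ from Subtype.ext hc'.symm,
            map_commutatorElement, commutatorElement_def]
          rw [mul_assoc, mul_assoc]
          refine mul_mem hqA.1 ?_
          rw [← mul_assoc]
          exact hA.conj_mem _ (inv_mem hqA.1) _
      obtain ⟨m, hm, hm64, hd⟩ : ∃ m < 64, (m = 8 ∨ m = 16 ∨ m = 24 ∨ m = 32 ∨ m = 40 ∨ m = 48 ∨ m = 56) ∧
          ¬ (16 : ℤ) ∣ dotL (repL 1) (repL m) := by decide +kernel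
      obtain ⟨hmc, hmne⟩ := X.M.conj64 (X.rel_lift m) ((norm_R_eq hm (by omega)).2 (by omega))
      have hmR := X.mem_R0_iff.2 ⟨m, hm, X.rel_lift m⟩
      obtain ⟨cm, hcm, hcme⟩ := X.fusion hmR hmc hmne
      have hsA : π ⟨X.s, hR0K _ (X.mem_R0_iff.2 ⟨1, by norm_num, X.hs⟩)⟩ ∈ A := by
        rw [show (⟨X.s, _⟩ : K) = csK * zK * csK⁻¹ from Subtype.ext hcse.symm, map_mul, map_mul, map_inv]
        exact hA.conj_mem _ hzA _
      have hmA : π ⟨X.lift m, hR0K _ hmR⟩ ∈ A := by
        rw [show (⟨X.lift m, _⟩ : K) = ⟨cm, (memK _).2 hcm⟩ * zK * (⟨cm, (memK _).2 hcm⟩)⁻¹ from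
          Subtype.ext hcme.symm, map_mul, map_mul, map_inv]
        exact hA.conj_mem _ hzA _
      have h1 := commutatorElement_eq_one_iff_mul_comm.2 (hcomm _ hsA _ hmA)
      rw [← map_commutatorElement, hπk] at h1
      refine hd ?_
      have h1' : ⁅X.s, X.lift m⁆ ∈ B := h1
      have hsm : ⁅X.s, X.lift m⁆ = 1 := X.not_mem_Q h1'
        (mul_mem (mul_mem (mul_mem (X.M.rel_mem X.hs) hmR.1) (inv_mem (X.M.rel_mem X.hs))) (inv_mem hmR.1))
      have := (X.M.comm_iff X.hs (X.rel_lift m)).1 (commutatorElement_eq_one_iff_mul_comm.mp hsm)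
      rw [coe_R (by norm_num), coe_R hm] at this
      have e := vOf_dotProduct (repL 1) (x := repL m) (length_row _)
      rw [← e]
      exact this
    have hodd : ∀ a ∈ A, ∀ k : ℕ, a ^ 2 ^ k = 1 → a = 1 := by
      intro a ha k
      induction k with
      | zero => intro h; simpa using h
      | succ k ih =>
        intro h
        exact ih (h2 _ (pow_mem ha _) (by rw [← pow_add, ← two_mul, ← pow_succ']; exact h))
    have hcz : ∀ a ∈ A, a * π zK = π zK * a → a = 1 := by
      intro a ha haz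
      obtain ⟨c, rfl⟩ := QuotientGroup.mk'_surjective _ a
      have hcT := liftT c haz
      have hcent : ∀ q ∈ R0, (c : G) * q = q * c := by
        intro q hq
        have hr := hR0norm _ hcT q hq
        have hrA : π ⟨_, hR0K _ hr⟩ ∈ A := by
          rw [show (⟨_, hR0K _ hr⟩ : K) = c * ((⟨q, hR0K q hq⟩ : K) * c⁻¹ * (⟨q, hR0K q hq⟩ : K)⁻¹) from
            Subtype.ext (by simp [mul_assoc]), map_mul, map_mul, map_mul, map_inv, map_inv]
          exact mul_mem ha (hA.conj_mem _ (inv_mem ha) _)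
        obtain ⟨k, hk⟩ := LargeExtraspecial.isPGroup_of_extraspecial X.M.extra ⟨_, hr.1⟩
        have h1 := hodd _ hrA k (by
          rw [← map_pow, show (⟨_, hR0K _ hr⟩ : K) ^ 2 ^ k = 1 from
            Subtype.ext (by simpa using congrArg Subtype.val hk), map_one])
        exact mul_inv_eq_iff_eq_mul.1 (mul_inv_eq_one.1 (X.not_mem_Q ((hπk _).1 h1) hr.1))
      obtain ⟨q, hq, i, hcq⟩ := X.θ_ker (t := ⟨c, hcT⟩) (X.θ_of_centralizes hcent)
      have hπq : π c = π ⟨q, hR0K q hq⟩ := by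
        refine inv_mul_eq_one.1 ?_
        rw [← map_inv, ← map_mul, hπk]
        show (c : G)⁻¹ * q ∈ B
        rw [show (c : G) = q * X.b ^ i from hcq, mul_inv_rev, mul_assoc, inv_mul_cancel, mul_one]
        exact inv_mem (pow_mem (Subgroup.mem_zpowers _) i)
      obtain ⟨k, hk⟩ := LargeExtraspecial.isPGroup_of_extraspecial X.M.extra ⟨_, hq.1⟩
      refine hodd _ ha k ?_
      show π c ^ 2 ^ k = 1
      rw [hπq, ← map_pow, show (⟨q, hR0K q hq⟩ : K) ^ 2 ^ k = 1 from
        Subtype.ext (by simpa using congrArg Subtype.val hk), map_one]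
    have hconj : ∀ n : K, ∀ a ∈ A, a * π (n * zK * n⁻¹) = π (n * zK * n⁻¹) * a → a = 1 := by
      intro n a ha h
      have h1 := hcz ((π n)⁻¹ * a * π n) (by
          have := hA.conj_mem a ha (π n)⁻¹; rwa [inv_inv] at this) (by
        rw [map_mul, map_mul, map_inv] at h
        calc (π n)⁻¹ * a * π n * π zK = (π n)⁻¹ * (a * (π n * π zK * (π n)⁻¹)) * π n := by group
          _ = (π n)⁻¹ * (π n * π zK * (π n)⁻¹ * a) * π n := by rw [h]
          _ = π zK * ((π n)⁻¹ * a * π n) := by group)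
      calc a = π n * ((π n)⁻¹ * a * π n) * (π n)⁻¹ := by group
        _ = 1 := by rw [h1]; group
    have inverts : ∀ n : K, ∀ a ∈ A, π (n * zK * n⁻¹) * a * π (n * zK * n⁻¹) = a⁻¹ := by
      intro n a ha
      set τ := π (n * zK * n⁻¹) with hτ
      have hττ : τ * τ = 1 := by
        rw [hτ, ← map_mul, conj_mul, show zK * zK = 1 from Subtype.ext D.z_sq, mul_one, mul_inv_cancel, map_one]
      have hτi : τ⁻¹ = τ := inv_eq_of_mul_eq_one_right hττ
      have hm : τ * a * τ ∈ A := by have := hA.conj_mem a ha τ; rwa [hτi] at this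
      refine eq_inv_of_mul_eq_one_right (hconj n _ (mul_mem ha hm) ?_)
      calc a * (τ * a * τ) * τ = a * τ * a := by rw [mul_assoc, mul_assoc (τ * a), hττ, mul_one, ← mul_assoc]
        _ = τ * (τ * a * τ * a) := by
          calc a * τ * a = (τ * τ) * a * τ * a := by rw [hττ, one_mul]
            _ = _ := by group
        _ = τ * (a * (τ * a * τ)) := by rw [hcomm (τ * a * τ) hm a ha]
    rw [Subgroup.eq_bot_iff_forall]
    intro a ha
    have hsK : csK * zK * csK⁻¹ * (1 * zK * 1⁻¹) = cxK * zK * cxK⁻¹ := Subtype.ext (by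
      show cs * X.z * cs⁻¹ * (1 * X.z * 1⁻¹) = cx * X.z * cx⁻¹
      rw [hcse, hcxe]; group)
    refine hconj cxK a ha ?_
    rw [← hsK, map_mul]
    have e1 := inverts csK a ha
    have e2 := inverts 1 a⁻¹ (inv_mem ha)
    rw [inv_inv] at e2
    set σ := π (csK * zK * csK⁻¹)
    set τ := π (1 * zK * 1⁻¹)
    have hσσ : σ * σ = 1 := by
      simp only [σ]
      rw [← map_mul, conj_mul, show zK * zK = 1 from Subtype.ext D.z_sq, mul_one, mul_inv_cancel, map_one]
    calc a * (σ * τ) = (σ * σ) * a * σ * τ := by rw [hσσ, one_mul, mul_assoc]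
      _ = σ * (σ * a * σ) * τ := by group
      _ = σ * (a⁻¹ * τ) := by rw [e1, mul_assoc]
      _ = σ * τ * a := by
        rw [mul_assoc]
        congr 1
        have hττ : τ * τ = 1 := by
          simp only [τ]
          rw [← map_mul, conj_mul, show zK * zK = 1 from Subtype.ext D.z_sq, mul_one, mul_inv_cancel, map_one]
        calc a⁻¹ * τ = (τ * τ) * a⁻¹ * τ := by rw [hττ, one_mul]
          _ = τ * (τ * a⁻¹ * τ) := by group
          _ = τ * a := by rw [e2]
  -- nilpotent normal subgroups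
  have hF : (Cfsg.fittingSubgroup K).map π = ⊥ := by
    by_contra hne
    set N := (Cfsg.fittingSubgroup K).map π with hN
    haveI : N.Normal := Subgroup.Normal.map inferInstance π (QuotientGroup.mk'_surjective _)
    haveI : Group.IsNilpotent N :=
      Cores.isNilpotent_map π (Cores.isNilpotent_of_le_fittingSubgroup le_rfl)
    haveI : Nontrivial N := (Subgroup.nontrivial_iff_ne_bot N).2 hne
    have h1 := abel ((Subgroup.center N).map N.subtype) inferInstance (by
      rintro _ ⟨x, hx, rfl⟩ _ ⟨y, -, rfl⟩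
      exact congrArg Subtype.val (Subgroup.mem_center_iff.1 hx y).symm)
    rw [Subgroup.map_eq_bot_iff_of_injective _ N.subtype_injective] at h1
    exact (Group.IsNilpotent.center_ne_bot (G := N)) h1
  intro x hx
  have h := (Subgroup.map_eq_bot_iff _).1 hF hx
  exact (hπk x).1 h

theorem centralizer_layer_le (hsne : X.s ≠ X.z) (hsc : IsConj X.z X.s)
    {x : Subgroup.centralizer (Subgroup.zpowers X.b : Set G)}
    (hx : ∀ y ∈ Cfsg.layer (Subgroup.centralizer (Subgroup.zpowers X.b : Set G)), x * y = y * x) :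
    (x : G) ∈ Subgroup.zpowers X.b := by
  refine X.fitting_le hsne hsc x (Components.centralizer_genFitting_le_fitting ?_)
  have hF : ∀ y ∈ Cfsg.fittingSubgroup (Subgroup.centralizer (Subgroup.zpowers X.b : Set G)),
      x * y = y * x := fun y hy =>
    Subtype.ext (Subgroup.mem_centralizer_iff.1 x.2 _ (X.fitting_le hsne hsc y hy)).symm
  have hle : Cfsg.generalizedFittingSubgroup (Subgroup.centralizer (Subgroup.zpowers X.b : Set G)) ≤
      Subgroup.centralizer {x} :=
    sup_le (fun y hy => Subgroup.mem_centralizer_singleton_iff.2 (hx y hy).symm)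
      (fun y hy => Subgroup.mem_centralizer_singleton_iff.2 (hF y hy).symm)
  exact Subgroup.mem_centralizer_iff.2 fun y hy => Subgroup.mem_centralizer_singleton_iff.1 (hle hy)

theorem not_inner (hsne : X.s ≠ X.z) (hsc : IsConj X.z X.s) {t : G}
    (ht : t * X.b * t⁻¹ = X.b⁻¹) :
    ¬ ∃ l ∈ (Cfsg.layer (Subgroup.centralizer (Subgroup.zpowers X.b : Set G))).map
        (Subgroup.centralizer (Subgroup.zpowers X.b : Set G)).subtype,
      ∀ x ∈ (Cfsg.layer (Subgroup.centralizer (Subgroup.zpowers X.b : Set G))).map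
        (Subgroup.centralizer (Subgroup.zpowers X.b : Set G)).subtype, t * x * t⁻¹ = l * x * l⁻¹ := by
  set K := Subgroup.centralizer (Subgroup.zpowers X.b : Set G)
  rintro ⟨_, ⟨l, hl, rfl⟩, hact⟩
  have hlb : (l : G) * X.b = X.b * l := (Subgroup.mem_centralizer_iff.1 l.2 _ (Subgroup.mem_zpowers _)).symm
  set u := (l : G)⁻¹ * t with hu
  have hub : u * X.b * u⁻¹ = X.b⁻¹ := by
    calc u * X.b * u⁻¹ = (l : G)⁻¹ * (t * X.b * t⁻¹) * (l : G) := by rw [hu]; group
      _ = (l : G)⁻¹ * ((l : G) * X.b * (l : G)⁻¹)⁻¹ * (l : G) := by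
        rw [ht, hlb, mul_inv_cancel_right]
      _ = X.b⁻¹ := by group
  have huL : ∀ y ∈ Cfsg.layer K, u * (y : G) * u⁻¹ = y := fun y hy => by
    calc u * (y : G) * u⁻¹ = (l : G)⁻¹ * (t * (y : G) * t⁻¹) * (l : G) := by rw [hu]; group
      _ = _ := by
        rw [show t * (y : G) * t⁻¹ = (l : G) * y * (l : G)⁻¹ by simpa using hact _ ⟨y, hy, rfl⟩]; group
  -- an involution of the centraliser is centralised
  have hfix : ∀ x : G, x * x = 1 → x * X.b = X.b * x → u * x * u⁻¹ = x := by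
    intro x hxx hxb
    have hxK : x ∈ K := Subgroup.mem_centralizer_iff.2 fun y hy => by
      obtain ⟨i, rfl⟩ := Subgroup.mem_zpowers_iff.1 hy
      exact ((show Commute x X.b from hxb).zpow_right i).eq.symm
    have hx'b : Commute (u * x * u⁻¹) X.b := by
      have h1 : Commute (u * x * u⁻¹) (u * X.b * u⁻¹) :=
        (Commute.conj_iff u).2 hxb
      rw [hub] at h1
      simpa using h1.inv_right
    have hx'K : u * x * u⁻¹ ∈ K := Subgroup.mem_centralizer_iff.2 fun y hy => by
      obtain ⟨i, rfl⟩ := Subgroup.mem_zpowers_iff.1 hy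
      exact (hx'b.zpow_right i).eq.symm
    have hB : ((⟨u * x * u⁻¹, hx'K⟩ * (⟨x, hxK⟩ : K)⁻¹ : K) : G) ∈ Subgroup.zpowers X.b := by
      refine X.centralizer_layer_le hsne hsc fun y hy => ?_
      have hy' : (⟨x, hxK⟩ : K)⁻¹ * y * ((⟨x, hxK⟩ : K)⁻¹)⁻¹ ∈ Cfsg.layer K :=
        (inferInstance : (Cfsg.layer K).Normal).conj_mem y hy _
      refine Subtype.ext ?_
      show u * x * u⁻¹ * x⁻¹ * (y : G) = (y : G) * (u * x * u⁻¹ * x⁻¹)
      have e1 := huL _ hy'
      have e2 := huL _ hy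
      simp only [Subgroup.coe_mul, Subgroup.coe_inv, inv_inv] at e1
      calc u * x * u⁻¹ * x⁻¹ * (y : G)
          = u * x * u⁻¹ * (x⁻¹ * y * x) * x⁻¹ := by group
        _ = u * x * u⁻¹ * (u * (x⁻¹ * y * x) * u⁻¹) * x⁻¹ := by rw [e1]
        _ = (u * (y : G) * u⁻¹) * (u * x * u⁻¹ * x⁻¹) := by group
        _ = _ := by rw [e2]
    obtain ⟨i, hi⟩ := Subgroup.mem_zpowers_iff.1 hB
    rw [Subgroup.coe_mul, Subgroup.coe_inv] at hi
    have hib : Commute (X.b ^ i) x := ((show Commute x X.b from hxb).zpow_right i).symm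
    have e : u * x * u⁻¹ = X.b ^ i * x := by rw [hi]; group
    have h2 : (X.b ^ i * x) * (X.b ^ i * x) = 1 := by
      rw [← e, conj_mul, hxx, mul_one, mul_inv_cancel]
    rw [hib.symm.mul_mul_mul_comm, hxx, mul_one] at h2
    rw [e, X.eq_one_of_sq (zpow_mem (Subgroup.mem_zpowers _) i) h2, one_mul]
  have huz : u ∈ Subgroup.centralizer ({X.z} : Set G) :=
    Subgroup.mem_centralizer_singleton_iff.2 (mul_inv_eq_iff_eq_mul.1 (hfix _ X.M.D.z_sq X.z_comm))
  let uC : Subgroup.centralizer ({X.z} : Set G) := ⟨u, huz⟩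
  obtain ⟨η, hη⟩ := QuotientGroup.mk_surjective (X.M.κ uC)
  have hκu : (QuotientGroup.mk (η * g7 * η⁻¹ * g7) : Spor.Co1) = 1 := by
    rw [QuotientGroup.mk_mul, QuotientGroup.mk_mul, QuotientGroup.mk_mul, QuotientGroup.mk_inv, hη,
      ← X.κ_bC, ← map_inv, ← map_mul, ← map_mul, ← map_mul,
      show uC * X.bC * uC⁻¹ * X.bC = 1 from Subtype.ext (by
        show u * X.b * u⁻¹ * X.b = 1
        rw [hub, inv_mul_cancel]), map_one]
  have hg6 : g7⁻¹ = g7 ^ 6 := inv_eq_of_mul_eq_one_right (by rw [← pow_succ']; exact g7_seven)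
  have heta : η * g7 = g7 ^ 6 * η := by
    rcases Leech.center_eq ((QuotientGroup.eq_one_iff _).1 hκu) with e | e
    · rw [← hg6]
      exact mul_inv_eq_iff_eq_mul.1 (eq_inv_of_mul_eq_one_left e)
    · exfalso
      have h2 : η * g7 * η⁻¹ = negOne * g7⁻¹ := eq_mul_inv_of_mul_eq e
      have h3 := congrArg (· ^ 7) h2
      simp only [conj_pow, g7_seven, mul_one, mul_inv_cancel] at h3
      rw [(show Commute negOne g7⁻¹ from
        ((Subgroup.mem_center_iff.1 Leech.negOne_mem_center) g7⁻¹).symm).mul_pow, inv_pow, g7_seven,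
        inv_one, mul_one] at h3
      have h4 : negOne * negOne = 1 := co0_ext fun v => by
        rw [mul_smul, negOne_smul, negOne_smul, neg_neg, one_smul]
      rw [show negOne ^ 7 = (negOne * negOne) ^ 3 * negOne by rw [← pow_two, ← pow_mul, ← pow_succ], h4,
        one_pow, one_mul] at h3
      have h5 := congrArg (fun g : Co0 => ((g • R 1 : leechLattice) : GolayPt → ℤ)) h3
      simp only [one_smul, negOne_smul, AddSubgroup.coe_neg] at h5
      have h6 : sqNorm (R 1 : GolayPt → ℤ) = 64 := (norm_R_eq (by norm_num) (by norm_num)).2 (by norm_num)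
      have h7 : (R 1 : GolayPt → ℤ) = 0 := funext fun i => by
        have := congrFun h5 i
        simp only [Pi.neg_apply] at this
        show (R 1 : GolayPt → ℤ) i = 0
        omega
      rw [h7, Leech.sqNorm_zero] at h6
      norm_num at h6
  refine no_twist_six (m := η) ?_ heta
  rw [← clsStab_R_one, mem_clsStab]
  have h1 := X.M.rel_equiv η uC hη X.hs
  rw [show (uC : G) * X.s * (uC : G)⁻¹ = X.s from hfix _ X.s_sq X.hbs.symm] at h1
  exact (X.M.rel_cg h1 X.hs).2 (Or.inl rfl)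

end Ctx

end Cfsg.Agent.MonsterSeven
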